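import Groth.Agent.MinModLib.ContrModel
import Groth.Agent.CycPushLib.Vanish
import Groth.Agent.CycBivLib.Birational

/-!
# Images of curves under a contraction: multiplicities and degrees
-/

set_option autoImplicit false
set_option linter.style.haveILetI false
set_option linter.unusedSectionVars false
set_option maxHeartbeats 2000000
set_option backward.isDefEq.respectTransparency false
set_option backward.isDefEq.respectTransparency.types false
universe u

open CategoryTheory CategoryTheory.Limits AlgebraicGeometry TopologicalSpace Topology IsLocalRing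

noncomputable section

namespace MinModLib

open PtBlowFactLib

variable {R : Type u} [CommRing R] [IsDomain R] [IsDiscreteValuationRing R]

/-- Every vertical curve of an arithmetic surface is a component of the closed fibre. -/
theorem range_mem_fibreComponents {X : Over (Spec (CommRingCat.of R))} (hX : ArSurf.IsArithSurface R X)
    (D : ArSurf.VertComp R X) :
    Set.range (D.ι.base : D.curve.left → X.left) ∈ Models.fibreComponents R X := by
  obtain ⟨hXi, hXp, hXn⟩ := surf_instances hX
  haveI := hXi; haveI := hXp; haveI := hXn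
  haveI := hX.2.2.2.1
  obtain ⟨n, Γ, hΓ⟩ := VertChiLib.exists_list_of_dim_two (X := X) hX.2.2.1
  obtain ⟨i₀, hi₀⟩ := VertIntLib.cover_of_list hΓ (Models.genPtOf R X D) (VertIntLib.genPt_over D)
  have h : Models.genPtOf R X (Γ i₀) = Models.genPtOf R X D :=
    VertIntLib.isFibGen_of_dim hX.2.2.1.le D _ (VertIntLib.genPt_over (Γ i₀))
      (specializes_iff_mem_closure.2 (VertIntLib.range_eq_closure (Γ i₀) ▸ hi₀))
  rw [← hΓ.2]
  exact ⟨i₀, show Set.range _ = _ by rw [VertIntLib.range_eq_closure, h, ← VertIntLib.range_eq_closure]⟩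

/-- Curves other than the contracted one are mapped onto curves. -/
theorem image_not_point {X Y : Over (Spec (CommRingCat.of R))} (hX : ArSurf.IsArithSurface R X) (b : X ⟶ Y)
    (y : Y.left) (hy : IsClosed ({y} : Set Y.left))
    [IsIso (b.left ∣_ (⟨{y}ᶜ, hy.isOpen_compl⟩ : Y.left.Opens))] (E C : ArSurf.VertComp R X)
    (hpre : b.left ⁻¹' {y} = Set.range (E.ι.base : E.curve.left → X.left))
    (hne : Set.range (C.ι.base : C.curve.left → X.left) ≠ Set.range (E.ι.base : E.curve.left → X.left)) :
    b.left (Models.genPtOf R X C) ≠ y ∧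
      ¬ (b.left '' Set.range (C.ι.base : C.curve.left → X.left)).Subsingleton := by
  obtain ⟨hXi, hXp, hXn⟩ := surf_instances hX
  haveI := hXi; haveI := hXp
  haveI := hX.2.2.2.1
  have hg : b.left (Models.genPtOf R X C) ≠ y := fun h => by
    refine hne ?_
    have h1 : Models.genPtOf R X E ⤳ Models.genPtOf R X C :=
      specializes_iff_mem_closure.2 ((VertIntLib.range_eq_closure E).le (hpre.le h))
    have h2 := VertIntLib.isFibGen_of_dim hX.2.2.1.le C _ (VertIntLib.genPt_over E) h1
    rw [VertIntLib.range_eq_closure, VertIntLib.range_eq_closure, h2]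
  refine ⟨hg, fun hs => ?_⟩
  have hall : ∀ c, C.ι c = Models.genPtOf R X C := fun c => by
    have h := hs ⟨C.ι c, ⟨c, rfl⟩, rfl⟩ ⟨Models.genPtOf R X C, ⟨_, rfl⟩, rfl⟩
    exact inj_off b.left hy (fun h' => hg (h.symm.trans h')) hg h
  haveI : Subsingleton ↥C.curve.left := ⟨fun a c => C.ι.isEmbedding.injective ((hall a).trans (hall c).symm)⟩
  have h3 := topologicalKrullDim_zero_of_discreteTopology (X := ↥C.curve.left)
  rw [C.dim_eq] at h3
  exact absurd h3 (by decide)

theorem isIso_stalkMap_off {A B : Scheme.{u}} (b : A ⟶ B) {y : B} (hy : IsClosed ({y} : Set B))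
    [IsIso (b ∣_ (⟨{y}ᶜ, hy.isOpen_compl⟩ : B.Opens))] {x : A} (hx : b x ≠ y) : IsIso (b.stalkMap x) :=
  (MorphismProperty.arrow_mk_iso_iff (MorphismProperty.isomorphisms _)
    (morphismRestrictStalkMap b (⟨{y}ᶜ, hy.isOpen_compl⟩ : B.Opens) ⟨x, hx⟩)).1
    (inferInstanceAs (IsIso ((b ∣_ (⟨{y}ᶜ, hy.isOpen_compl⟩ : B.Opens)).stalkMap ⟨x, hx⟩)))

/-- Where a morphism is a local isomorphism at the generic points, degrees are preserved. -/
theorem inter_pullback_birat {X Y : Over (Spec (CommRingCat.of R))} [IsProper X.hom] [IsProper Y.hom] (f : X ⟶ Y)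
    (C : ArSurf.VertComp R X) (D : ArSurf.VertComp R Y)
    (hr : f.left '' Set.range (C.ι.base : C.curve.left → X.left) ⊆ Set.range (D.ι.base : D.curve.left → Y.left))
    (hg : Models.genPtOf R Y D = f.left (Models.genPtOf R X C))
    (hst : IsIso (f.left.stalkMap (Models.genPtOf R X C))) {M : Y.left.Modules} (hM : PicF.IsInvertible M) :
    ArSurf.inter R X ((Scheme.Modules.pullback f.left).obj M) C = ArSurf.inter R Y M D := by
  haveI := VertIntLib.isProper_curve C
  haveI := VertIntLib.isProper_curve D
  have hrange : Set.range (C.ι ≫ f.left) ⊆ Set.range (D.ι.base : D.curve.left → Y.left) := by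
    rw [Scheme.Hom.comp_base, TopCat.coe_comp, Set.range_comp]
    exact hr
  let φ : C.curve.left ⟶ D.curve.left :=
    IsClosedImmersion.lift D.ι (C.ι ≫ f.left) (DvrProperLib.ker_le_ker_of_range_subset D.ι _ hrange)
  have hφ : φ ≫ D.ι = C.ι ≫ f.left := IsClosedImmersion.lift_fac _ _ _
  haveI : IsClosedImmersion (Spec.map (CommRingCat.ofHom (residue R))) :=
    IsClosedImmersion.spec_of_surjective _ residue_surjective
  have hover : φ ≫ (D.curve.left ↘ Spec (CommRingCat.of (ResidueField R))) =
      C.curve.left ↘ Spec (CommRingCat.of (ResidueField R)) := by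
    rw [← cancel_mono (Spec.map (CommRingCat.ofHom (residue R))), Category.assoc, VertIntLib.over_hom,
      ← Category.assoc, hφ, Category.assoc, Over.w f, VertIntLib.over_hom]
  have hξ : φ.base (genericPoint C.curve.left) = genericPoint D.curve.left := D.ι.isEmbedding.injective (by
    rw [← Scheme.Hom.comp_apply, hφ]
    exact hg.symm)
  have hdeg : φ.residueDegree (genericPoint C.curve.left) = 1 := by
    have h : (φ ≫ D.ι).residueDegree (genericPoint C.curve.left) =
        (C.ι ≫ f.left).residueDegree (genericPoint C.curve.left) := by rw [hφ]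
    rw [CycPushLib.residueDegree_comp, CycPushLib.residueDegree_comp,
      CycPushLib.residueDegree_eq_one_of_preimmersion D.ι, CycPushLib.residueDegree_eq_one_of_preimmersion C.ι,
      mul_one, one_mul] at h
    rw [h]
    haveI := hst
    exact CycBivLib.residueDegree_eq_one_of_surjective f.left (Models.genPtOf R X C)
      (ConcreteCategory.bijective_of_isIso (f.left.stalkMap (Models.genPtOf R X C))).2
  have key := Groth.Agent.S7640.result (ResidueField R) C.curve.left D.curve.left C.dim_eq D.dim_eq φ hover hξ 1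
    ((Scheme.Modules.pullback D.ι).obj M) (CurvLib.locFree_of_isInvertible (AmpleDevLib.isInvertible_pb D.ι hM))
  rw [hdeg, Nat.cast_one, one_mul] at key
  rw [VertIntLib.inter_eq_deg, VertIntLib.inter_eq_deg, ← key]
  refine CurvLib.deg_congr ?_ 1
  exact (Scheme.Modules.pullbackComp C.ι f.left).app M ≪≫ (Scheme.Modules.pullbackCongr hφ.symm).app M ≪≫
    ((Scheme.Modules.pullbackComp φ D.ι).app M).symm

theorem stalkMap_stalkHom {X Y : Over (Spec (CommRingCat.of R))} (f : X ⟶ Y) (x : X.left) (r : R) :
    (f.left.stalkMap x).hom (Models.stalkHom R Y (f.left x) r) = Models.stalkHom R X x r := by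
  show (f.left.stalkMap x).hom ((Y.left.presheaf.germ ⊤ (f.left x) trivial).hom (Coh.toGlobal Y.hom r)) =
    (X.left.presheaf.germ ⊤ x trivial).hom (Coh.toGlobal X.hom r)
  have h : Coh.toGlobal X.hom r = f.left.appTop.hom (Coh.toGlobal Y.hom r) := by
    show X.hom.appTop.hom _ = f.left.appTop.hom (Y.hom.appTop.hom _)
    rw [← Over.w f, Scheme.Hom.comp_appTop]
    rfl
  rw [h]
  exact Scheme.Hom.germ_stalkMap_apply f.left ⊤ x trivial _

/-- Multiplicities are preserved where the morphism is a local isomorphism. -/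
theorem mult_eq_of_isIso {X Y : Over (Spec (CommRingCat.of R))} (hX : ArSurf.IsArithSurface R X)
    (hY : ArSurf.IsArithSurface R Y) (f : X ⟶ Y) (C : ArSurf.VertComp R X) (D : ArSurf.VertComp R Y)
    (hg : Models.genPtOf R Y D = f.left (Models.genPtOf R X C))
    (hst : IsIso (f.left.stalkMap (Models.genPtOf R X C))) :
    Models.mult R Y D = Models.mult R X C := by
  obtain ⟨hXi, hXp, hXn⟩ := surf_instances hX
  obtain ⟨hYi, hYp, hYn⟩ := surf_instances hY
  haveI := hXi; haveI := hXp; haveI := hYi; haveI := hYp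
  haveI := hX.2.2.2.1
  haveI := hY.2.2.2.1
  haveI := hst
  obtain ⟨ϖ, hϖi⟩ := IsDiscreteValuationRing.exists_irreducible R
  have hϖ : maximalIdeal R = Ideal.span {ϖ} := hϖi.maximalIdeal_eq
  have hgD := VertIntLib.isFibGen_of_dim hY.2.2.1.le D
  have hgC := VertIntLib.isFibGen_of_dim hX.2.2.1.le C
  set A := X.left.presheaf.stalk (Models.genPtOf R X C)
  haveI := hX.1 (Models.genPtOf R X C)
  haveI := RegUFDLib.uniqueFactorizationMonoid A
  have h1 : ringKrullDim A = 1 := VertIntLib.dim_stalk_eq_one (VertIntLib.genPt_over C) hgC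
  haveI : IsDiscreteValuationRing A :=
    WeilExtLib.isDiscreteValuationRing_of_regular A h1.le fun hf => by
      rw [ringKrullDim_eq_zero_of_isField hf] at h1
      exact zero_ne_one h1
  have hne : Ideal.span {Models.stalkHom R X (Models.genPtOf R X C) ϖ} ≠ (⊥ : Ideal A) := fun h =>
    VertIntLib.pi_ne_zero (Models.genPtOf R X C) hϖ (Ideal.mem_bot.1 (h ▸ Ideal.mem_span_singleton_self _))
  obtain ⟨t, ht⟩ := IsDiscreteValuationRing.exists_irreducible A
  obtain ⟨e, he⟩ := IsDiscreteValuationRing.ideal_eq_span_pow_irreducible hne ht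
  rw [← Ideal.span_singleton_pow, ← ht.maximalIdeal_eq] at he
  rw [VertIntLib.mult_eq hX.1 C hgC hϖ he]
  let φ : Y.left.presheaf.stalk (f.left (Models.genPtOf R X C)) ≃+* A :=
    (asIso (f.left.stalkMap (Models.genPtOf R X C))).commRingCatIsoToRingEquiv
  have he' : Ideal.span {Models.stalkHom R Y (f.left (Models.genPtOf R X C)) ϖ} =
      maximalIdeal (Y.left.presheaf.stalk (f.left (Models.genPtOf R X C))) ^ e := by
    refine Ideal.comap_injective_of_surjective φ.symm.toRingHom φ.symm.surjective ?_
    have hmax : (maximalIdeal (Y.left.presheaf.stalk (f.left (Models.genPtOf R X C)))).comap φ.symm.toRingHom =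
        maximalIdeal A :=
      eq_maximalIdeal (Ideal.comap_isMaximal_of_surjective φ.symm.toRingHom φ.symm.surjective)
    have hcm : ∀ I : Ideal (Y.left.presheaf.stalk (f.left (Models.genPtOf R X C))),
        I.comap φ.symm.toRingHom = I.map φ.toRingHom := fun I => Ideal.comap_symm φ
    rw [hcm, hcm, Ideal.map_span, Set.image_singleton, Ideal.map_pow, ← hcm, hmax, ← he]
    congr 1
    exact congrArg _ (stalkMap_stalkHom f (Models.genPtOf R X C) ϖ)
  exact VertIntLib.mult_eq hY.1 D hgD hϖ (hg ▸ he')

end MinModLib
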