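import Groth.Agent.MinModLib.PullClass
import Groth.Agent.ProjModLib.Dim

/-!
# Contracting a component of a regular proper model
-/

set_option autoImplicit false
set_option linter.style.haveILetI false
set_option linter.unusedSectionVars false
set_option maxHeartbeats 2000000
set_option backward.isDefEq.respectTransparency false
set_option backward.isDefEq.respectTransparency.types false
universe u

open CategoryTheory CategoryTheory.Limits AlgebraicGeometry TopologicalSpace Topology IsLocalRing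
open CubeConsLib

noncomputable section

namespace MinModLib

open PtBlowFactLib

variable {R : Type u} [CommRing R] [IsDomain R] [IsDiscreteValuationRing R]

/-- Composing a generic fibre inclusion with a morphism iso on generic fibres. -/
theorem isPullback_comp_generic {X Y : Over (Spec (CommRingCat.of R))} (b : X ⟶ Y)
    [IsIso ((Neron.genericFibre R).map b)] {C : Scheme.{u}} {f : C ⟶ Spec (CommRingCat.of (FractionRing R))}
    {g : C ⟶ X.left} (hg : IsPullback g f X.hom (Neron.genPt R)) :
    IsPullback (g ≫ b.left) f Y.hom (Neron.genPt R) := by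
  let F := ((Neron.genericFibre R).map b).left
  haveI : IsIso F := inferInstanceAs (IsIso ((Over.forget _).map ((Neron.genericFibre R).map b)))
  have hF1 : F ≫ pullback.fst Y.hom (Neron.genPt R) = pullback.fst X.hom (Neron.genPt R) ≫ b.left := by
    simp [F, Neron.genericFibre, Over.pullback]
  have hF2 : F ≫ pullback.snd Y.hom (Neron.genPt R) = pullback.snd X.hom (Neron.genPt R) := by
    simp [F, Neron.genericFibre, Over.pullback]
  refine (IsPullback.of_hasPullback Y.hom (Neron.genPt R)).of_iso (hg.isoPullback ≪≫ asIso F).symm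
    (Iso.refl _) (Iso.refl _) (Iso.refl _) ?_ ?_ ?_ ?_
  · rw [Iso.symm_hom, Iso.refl_hom, Category.comp_id, Iso.eq_inv_comp, Iso.trans_hom, asIso_hom, Category.assoc, hF1,
      ← Category.assoc, hg.isoPullback_hom_fst]
  · rw [Iso.symm_hom, Iso.refl_hom, Category.comp_id, Iso.eq_inv_comp, Iso.trans_hom, asIso_hom, Category.assoc, hF2,
      hg.isoPullback_hom_snd]
  · simp
  · simp

/-- The components after contracting one. -/
theorem fibreComponents_contraction {X Y : Over (Spec (CommRingCat.of R))} (hX : ArSurf.IsArithSurface R X)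
    (hY : ArSurf.IsArithSurface R Y) (b : X ⟶ Y) [IsIso ((Neron.genericFibre R).map b)] (y : Y.left)
    (hy : IsClosed ({y} : Set Y.left)) [IsIso (b.left ∣_ (⟨{y}ᶜ, hy.isOpen_compl⟩ : Y.left.Opens))]
    (hys : Y.hom y = closedPoint R) {n : ℕ} (Γ : Fin (n + 1) → ArSurf.VertComp R X)
    (hΓ : Models.IsComponentList R X Γ)
    (hpre : b.left ⁻¹' {y} = Set.range ((Γ (Fin.last n)).ι.base : (Γ (Fin.last n)).curve.left → X.left)) :
    Models.fibreComponents R Y =
      Set.range (fun i : Fin n => b.left.base '' Set.range ((Γ i.castSucc).ι.base : (Γ i.castSucc).curve.left → X.left)) := by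
  obtain ⟨hXi, hXp, hXn⟩ := surf_instances hX
  obtain ⟨hYi, hYp, hYn⟩ := surf_instances hY
  haveI := hXi; haveI := hXp; haveI := hYi; haveI := hYp; haveI := hXn; haveI := hYn
  haveI := hX.2.2.2.1
  haveI := hY.2.2.2.1
  haveI := isProper_hom b
  obtain ⟨W, -, -, hdom⟩ := exists_birational_open b fun q => haveI := hY.1 q; Groth.Agent.S9829.result _
  have hs : Function.Surjective b.left := fun w =>
    ((genericPoint_spec Y.left).specializes (Set.mem_univ w)).mem_closed b.left.isClosedMap.isClosed_range ⟨_, hdom⟩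
  refine Set.Subset.antisymm ?_ ?_
  · obtain ⟨n', Δ, hΔ⟩ := VertChiLib.exists_list_of_dim_two (X := Y) hY.2.2.1
    rw [← hΔ.2]
    rintro _ ⟨j, rfl⟩
    obtain ⟨x, hx⟩ := hs (Models.genPtOf R Y (Δ j))
    have hxo : X.hom x = closedPoint R := by
      rw [← Over.w b, Scheme.Hom.comp_apply, hx]; exact VertIntLib.genPt_over (Δ j)
    obtain ⟨i, hi⟩ := VertIntLib.cover_of_list hΓ x hxo
    have hg : b.left (Models.genPtOf R X (Γ i)) = Models.genPtOf R Y (Δ j) := by
      rw [VertIntLib.range_eq_closure] at hi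
      exact VertIntLib.isFibGen_of_dim hY.2.2.1.le (Δ j) _ (by
        rw [← Scheme.Hom.comp_apply, Over.w b]; exact VertIntLib.genPt_over (Γ i))
        (hx ▸ (specializes_iff_mem_closure.2 hi).map b.left.continuous)
    have hil : i ≠ Fin.last n := fun h => by
      have h1 : Models.genPtOf R X (Γ i) ∈ Set.range ((Γ (Fin.last n)).ι.base : (Γ (Fin.last n)).curve.left → X.left) := by
        rw [h]; exact ⟨_, rfl⟩
      have h2 : Models.genPtOf R Y (Δ j) = y := hg.symm.trans (hpre.ge h1)
      refine genericPoint_not_closed (Δ j) ?_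
      have h3 : ({genericPoint (Δ j).curve.left} : Set (Δ j).curve.left) = (Δ j).ι ⁻¹' {y} := by
        ext c
        refine ⟨?_, fun hc => (Δ j).ι.isEmbedding.injective ((Set.mem_singleton_iff.1 hc).trans h2.symm)⟩
        rintro rfl
        exact h2
      rw [h3]
      exact hy.preimage (Δ j).ι.continuous
    obtain ⟨i', rfl⟩ := Fin.exists_castSucc_eq.2 hil
    refine ⟨i', ?_⟩
    show b.left '' _ = Set.range (Δ j).ι.base
    rw [range_image, hg, ← VertIntLib.range_eq_closure]
  · rintro _ ⟨i, rfl⟩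
    have hne : Set.range ((Γ i.castSucc).ι.base : (Γ i.castSucc).curve.left → X.left) ≠
        Set.range ((Γ (Fin.last n)).ι.base : (Γ (Fin.last n)).curve.left → X.left) := fun h =>
      (Fin.castSucc_lt_last i).ne (hΓ.1 h)
    obtain ⟨D, hD, -⟩ := exists_image hY b (Γ i.castSucc)
      (image_not_point hX b y hy (Γ (Fin.last n)) (Γ i.castSucc) hpre hne).2
    show b.left '' _ ∈ _
    rw [← hD]
    exact range_mem_fibreComponents hY D

/-- The intersection numbers after contracting one component. -/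
theorem inter_contraction {X Y : Scheme.{u}} (b : X ⟶ Y) (p : Y ⟶ Spec (CommRingCat.of R))
    (hX : ArSurf.IsArithSurface R (Over.mk (b ≫ p))) (hY : ArSurf.IsArithSurface R (Over.mk p)) (y : Y)
    (hy : IsClosed ({y} : Set Y)) (hys : p y = closedPoint R)
    (hb : BlowUp.IsBlowUp b (Scheme.IdealSheafData.vanishingIdeal ⟨{y}, hy⟩))
    (E C C' : ArSurf.VertComp R (Over.mk (b ≫ p)))
    (hpre : b ⁻¹' {y} = Set.range (E.ι.base : E.curve.left → X))
    (hne : Set.range (C.ι.base : C.curve.left → X) ≠ Set.range (E.ι.base : E.curve.left → X))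
    (hne' : Set.range (C'.ι.base : C'.curve.left → X) ≠ Set.range (E.ι.base : E.curve.left → X))
    (D D' : ArSurf.VertComp R (Over.mk p))
    (hD : Set.range (D.ι.base : D.curve.left → Y) = b '' Set.range (C.ι.base : C.curve.left → X))
    (hD' : Set.range (D'.ι.base : D'.curve.left → Y) = b '' Set.range (C'.ι.base : C'.curve.left → X))
    (LE LC : X.Modules) (hLE : ClSub.IsInverseOf LE (ClSub.idealMod E.ι.ker))
    (hLC : ClSub.IsInverseOf LC (ClSub.idealMod C.ι.ker))
    (LD : Y.Modules) (hLD : ClSub.IsInverseOf LD (ClSub.idealMod D.ι.ker)) :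
    ArSurf.inter R (Over.mk p) LD D' * ArSurf.inter R (Over.mk (b ≫ p)) LE E =
      ArSurf.inter R (Over.mk (b ≫ p)) LC C' * ArSurf.inter R (Over.mk (b ≫ p)) LE E -
        ArSurf.inter R (Over.mk (b ≫ p)) LE C' * ArSurf.inter R (Over.mk (b ≫ p)) LE C ∧
    Models.genPtOf R (Over.mk p) D = b (Models.genPtOf R (Over.mk (b ≫ p)) C) := by
  obtain ⟨hXi, hXp, hXn⟩ := surf_instances hX
  obtain ⟨hYi, hYp, hYn⟩ := surf_instances hY
  haveI : IsIntegral (Over.mk (b ≫ p)).left := hXi
  haveI : IsProper (Over.mk (b ≫ p)).hom := hXp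
  haveI : IsIntegral (Over.mk p).left := hYi
  haveI : IsProper (Over.mk p).hom := hYp
  haveI : IsNoetherian Y := hYn
  haveI := hX.2.2.2.1
  haveI := hY.2.2.2.1
  let bo : Over.mk (b ≫ p) ⟶ Over.mk p := Over.homMk b rfl
  haveI : IsIso (b ∣_ (⟨{y}ᶜ, hy.isOpen_compl⟩ : Y.Opens)) := CanonBlowLib.iso_off (Over.mk p) b y hy hb
  haveI : IsIso (bo.left ∣_ (⟨{y}ᶜ, hy.isOpen_compl⟩ : (Over.mk p).left.Opens)) :=
    ‹IsIso (b ∣_ (⟨{y}ᶜ, hy.isOpen_compl⟩ : Y.Opens))›
  haveI : IsProper bo.left := isProper_hom bo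
  have hgen : ∀ (C : ArSurf.VertComp R (Over.mk (b ≫ p))) (D : ArSurf.VertComp R (Over.mk p)),
      Set.range (D.ι.base : D.curve.left → Y) = b '' Set.range (C.ι.base : C.curve.left → X) →
      Models.genPtOf R (Over.mk p) D = b (Models.genPtOf R (Over.mk (b ≫ p)) C) := fun C D h => by
    have h1 : Models.genPtOf R (Over.mk p) D ⤳ b (Models.genPtOf R (Over.mk (b ≫ p)) C) :=
      specializes_iff_mem_closure.2 ((VertIntLib.range_eq_closure D).le (h.ge ⟨_, ⟨_, rfl⟩, rfl⟩))
    obtain ⟨x, hx, hxe⟩ := h.le ⟨genericPoint D.curve.left, rfl⟩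
    have h2 := (specializes_iff_mem_closure.2 ((VertIntLib.range_eq_closure C).le hx)).map bo.left.continuous
    exact (h1.antisymm (h2.trans (specializes_of_eq hxe))).eq
  refine ⟨?_, hgen C D hD⟩
  obtain ⟨a, ha, hcl⟩ := pullback_curve b p hY y hy hys hb E C hpre hne D hD LE LC hLE hLC LD hLD
  obtain ⟨hbn, -⟩ := image_not_point hX bo y hy E C' hpre hne'
  have hEc := VertIntLib.isEffCartier_ker hX.1 E (VertIntLib.isFibGen_of_dim hX.2.2.1.le E)
  have hCc := VertIntLib.isEffCartier_ker hX.1 C (VertIntLib.isFibGen_of_dim hX.2.2.1.le C)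
  have hDc := VertIntLib.isEffCartier_ker hY.1 D (VertIntLib.isFibGen_of_dim hY.2.2.1.le D)
  have hLEi : PicF.IsInvertible LE := VertIntLib.isInvertible_inverse hEc hLE
  have hLCi : PicF.IsInvertible LC := VertIntLib.isInvertible_inverse hCc hLC
  have hLDi : PicF.IsInvertible LD := VertIntLib.isInvertible_inverse hDc hLD
  have h1 := inter_pullback_birat bo C' D' hD'.ge (hgen C' D' hD')
    (isIso_stalkMap_off bo.left hy hbn) hLDi
  have h2 : ArSurf.inter R (Over.mk (b ≫ p)) ((Scheme.Modules.pullback b).obj LD) C' =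
      ArSurf.inter R (Over.mk (b ≫ p)) LC C' + (a : ℤ) * ArSurf.inter R (Over.mk (b ≫ p)) LE C' := by
    rw [VertIntLib.inter_congr (X := Over.mk (b ≫ p)) hcl C',
      VertIntLib.inter_tensor (X := Over.mk (b ≫ p)) hLCi (VertIntLib.pow_spec (X := Over.mk (b ≫ p)) hLEi C' a).1 C',
      (VertIntLib.pow_spec (X := Over.mk (b ≫ p)) hLEi C' a).2]
  have hsym : ArSurf.inter R (Over.mk (b ≫ p)) LC E = ArSurf.inter R (Over.mk (b ≫ p)) LE C :=
    VertIntLib.inter_symm hEc hCc (VertIntLib.genPt_not_mem E hX.2.2.1.le C hne.symm)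
      (VertIntLib.genPt_not_mem C hX.2.2.1.le E hne) hLE hLC
  rw [← h1, show (Scheme.Modules.pullback bo.left).obj LD = (Scheme.Modules.pullback b).obj LD from rfl, h2, ← hsym,
    ← ha]
  ring

end MinModLib
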