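import Groth.Agent.MinModLib.Dominate
import Groth.Agent.MinModLib.S3346Main

/-!
# Morphisms of arithmetic surfaces are sequences of contractions
-/

set_option autoImplicit false
set_option linter.style.haveILetI false
set_option backward.isDefEq.respectTransparency false
set_option backward.isDefEq.respectTransparency.types false
set_option maxHeartbeats 1000000
universe u

open CategoryTheory CategoryTheory.Limits AlgebraicGeometry TopologicalSpace IsLocalRing

noncomputable section

namespace MinModLib

open PtBlowFactLib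

variable {R : Type u} [CommRing R] [IsDomain R] [IsDiscreteValuationRing R]

/-- The contraction of an exceptional curve is a contraction in the sense of models. -/
theorem isContractionOf_exc {X Y : Over (Spec (CommRingCat.of R))} (hX : ArSurf.IsArithSurface R X)
    (hY : ArSurf.IsArithSurface R Y) (E : ArSurf.VertComp R X) (b : X ⟶ Y) (y : Y.left)
    (hy : IsClosed ({y} : Set Y.left)) (hpre : b.left ⁻¹' {y} = Set.range (E.ι.base : E.curve.left → X.left))
    (hiso : IsIso (b.left ∣_ (⟨{y}ᶜ, hy.isOpen_compl⟩ : Y.left.Opens)))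
    (hys : Y.hom y = closedPoint R) : Models.IsContractionOf E.ι b.left := by
  obtain ⟨hXi, hXp, hXn⟩ := surf_instances hX
  obtain ⟨hYi, hYp, hYn⟩ := surf_instances hY
  haveI := hXi; haveI := hXp; haveI := hXn; haveI := hYi; haveI := hYp; haveI := hYn
  haveI := isProper_hom b
  haveI := hY.2.2.2.1
  have hgen : genericPoint Y.left ≠ y := fun h => by
    rw [← h, VertIntLib.genericPoint_over] at hys
    exact VertIntLib.eta_ne_closedPoint hys
  have hbig : ¬ (b.left ⁻¹' {y}).Subsingleton := by
    rw [hpre]
    intro h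
    haveI : Subsingleton ↥E.curve.left :=
      ⟨fun a c => E.ι.isClosedEmbedding.injective (h ⟨a, rfl⟩ ⟨c, rfl⟩)⟩
    have := topologicalKrullDim_zero_of_discreteTopology (X := ↥E.curve.left)
    rw [E.dim_eq] at this
    exact (not_le.2 zero_lt_one) this
  have hirr : IsPreirreducible (b.left ⁻¹' {y}) := by
    rw [hpre, ← Set.image_univ]
    exact (PreirreducibleSpace.isPreirreducible_univ (X := E.curve.left)).image _ E.ι.continuous.continuousOn
  haveI := hiso
  refine ⟨hYn, inferInstance, y, hy, ?_, hY.1 y, ?_, surf_isBlowUp hX hY b y hy hiso hirr hbig⟩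
  · refine Set.Subset.antisymm ?_ (Set.singleton_subset_iff.2 ?_)
    · rintro _ ⟨c, rfl⟩
      exact hpre.ge ⟨c, rfl⟩
    · obtain ⟨c⟩ := (inferInstance : Nonempty E.curve.left)
      exact ⟨c, hpre.ge ⟨c, rfl⟩⟩
  · exact stalk_dim_of_big hX hY b (⟨{y}ᶜ, hy.isOpen_compl⟩ : Y.left.Opens) ⟨genericPoint Y.left, hgen⟩ y hbig

/-- A morphism of arithmetic surfaces which is an isomorphism on generic fibres is a sequence of
contractions of exceptional curves. -/
theorem isContractionSeq_of_birational : ∀ (m : ℕ) {X Y : Over (Spec (CommRingCat.of R))}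
    (_hX : ArSurf.IsArithSurface R X) (_hY : ArSurf.IsArithSurface R Y) (f : X ⟶ Y)
    [IsIso ((Neron.genericFibre R).map f)], (Models.fibreComponents R X).ncard ≤ m →
    Models.IsContractionSeq f.left := by
  intro m
  induction m using Nat.strong_induction_on with
  | _ m ih =>
  intro X Y hX hY f _ hm
  by_cases hf : IsIso f.left
  · haveI := hf
    exact .iso (asIso f.left)
  obtain ⟨E, hE, w, hw⟩ := exists_contracted_exc _ hX hY f le_rfl hf
  obtain ⟨X', b, y, hy, hX', hys, hpre, hiso, hbi⟩ := exists_contraction_exc hX E hE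
  haveI := hbi
  obtain ⟨g, hg, -⟩ := factor_contraction hX hX' E b y hy hpre hiso hY.2.2.2.2 f ⟨w, hw⟩
  haveI : IsIso ((Neron.genericFibre R).map g) := by
    haveI : IsIso ((Neron.genericFibre R).map b ≫ (Neron.genericFibre R).map g) := by
      rw [← Functor.map_comp, hg]; infer_instance
    exact IsIso.of_isIso_comp_left ((Neron.genericFibre R).map b) _
  obtain ⟨-, hlt⟩ := contraction_spec hX hX' E b y hy hpre hiso
  rw [← hg]
  exact .step E.ι b.left g.left inferInstance hE (isContractionOf_exc hX hX' E b y hy hpre hiso hys)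
    (ih _ (lt_of_lt_of_le hlt hm) hX' hY g le_rfl)

/-- Every arithmetic surface maps to one without exceptional curves. -/
theorem exists_no_exc_target : ∀ (m : ℕ) {X : Over (Spec (CommRingCat.of R))} (_hX : ArSurf.IsArithSurface R X),
    (Models.fibreComponents R X).ncard ≤ m → ∃ (Z : Over (Spec (CommRingCat.of R))) (g : X ⟶ Z),
      ArSurf.IsArithSurface R Z ∧ IsIso ((Neron.genericFibre R).map g) ∧
      ∀ D : ArSurf.VertComp R Z, ¬ Models.IsExcCurve D.ι := by
  intro m
  induction m using Nat.strong_induction_on with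
  | _ m ih =>
  intro X hX hm
  by_cases h : ∀ D : ArSurf.VertComp R X, ¬ Models.IsExcCurve D.ι
  · exact ⟨X, 𝟙 X, hX, inferInstance, h⟩
  push Not at h
  obtain ⟨E, hE⟩ := h
  obtain ⟨X', b, y, hy, hX', hys, hpre, hiso, hbi⟩ := exists_contraction_exc hX E hE
  haveI := hbi
  obtain ⟨-, hlt⟩ := contraction_spec hX hX' E b y hy hpre hiso
  obtain ⟨Z, g, hZ, hgi, hne⟩ := ih _ (lt_of_lt_of_le hlt hm) hX' le_rfl
  haveI := hgi
  exact ⟨Z, b ≫ g, hZ, by rw [Functor.map_comp]; infer_instance, hne⟩

end MinModLib

end
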