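import Groth.Agent.MinModLib.Exists
import Groth.Agent.MinModLib.S3346Main
import Groth.Agent.MinModLib.SeqOf
import Groth.Agent.S13321
import Groth.Agent.VertChiLib.Fibre

/-!
# Uniqueness of minimal models
-/

set_option autoImplicit false
set_option linter.style.haveILetI false
set_option backward.isDefEq.respectTransparency false
set_option backward.isDefEq.respectTransparency.types false
set_option maxHeartbeats 1000000
universe u

open CategoryTheory CategoryTheory.Limits AlgebraicGeometry TopologicalSpace IsLocalRing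
open KFlatLib (pb)

noncomputable section

namespace MinModLib

open PtBlowFactLib

variable {R : Type u} [CommRing R] [IsDomain R] [IsDiscreteValuationRing R]

/-- A morphism matching generic fibres is an isomorphism on them. -/
theorem isIso_generic_of_comp {X Y : Over (Spec (CommRingCat.of R))} (b : X ⟶ Y) {C : Scheme.{u}}
    {f : C ⟶ Spec (CommRingCat.of (FractionRing R))} {g : C ⟶ X.left}
    (hg : IsPullback g f X.hom (Neron.genPt R)) (hg' : IsPullback (g ≫ b.left) f Y.hom (Neron.genPt R)) :
    IsIso ((Neron.genericFibre R).map b) := by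
  let F := ((Neron.genericFibre R).map b).left
  have hF1 : F ≫ pullback.fst Y.hom (Neron.genPt R) = pullback.fst X.hom (Neron.genPt R) ≫ b.left := by
    simp [F, Neron.genericFibre, Over.pullback]
  have hF2 : F ≫ pullback.snd Y.hom (Neron.genPt R) = pullback.snd X.hom (Neron.genPt R) := by
    simp [F, Neron.genericFibre, Over.pullback]
  have e : hg.isoPullback.hom ≫ F = hg'.isoPullback.hom := by
    apply pullback.hom_ext
    · rw [Category.assoc, hF1, ← Category.assoc, hg.isoPullback_hom_fst, hg'.isoPullback_hom_fst]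
    · rw [Category.assoc, hF2, hg.isoPullback_hom_snd, hg'.isoPullback_hom_snd]
  haveI : IsIso (hg.isoPullback.hom ≫ F) := e ▸ inferInstance
  haveI : IsIso F := IsIso.of_isIso_comp_left hg.isoPullback.hom F
  haveI : IsIso ((Over.forget _).map ((Neron.genericFibre R).map b)) := ‹IsIso F›
  exact isIso_of_reflects_iso _ (Over.forget _)

/-- A surface without exceptional curves is relatively minimal. -/
theorem relMinimal_of_no_exc {X : Over (Spec (CommRingCat.of R))} (hX : ArSurf.IsArithSurface R X)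
    (hne : ∀ D : ArSurf.VertComp R X, ¬ Models.IsExcCurve D.ι) : Neron.IsRelMinimalRegularModel R X := by
  refine ⟨hX.1, hX.2.2.2.2, hX.2.2.2.1, fun Y hYreg hYproj hYflat g hgi => ?_⟩
  haveI := hgi
  by_cases hiso : IsIso g.left
  · haveI : IsIso ((Over.forget _).map g) := hiso
    exact isIso_of_reflects_iso g (Over.forget _)
  exfalso
  have hY := isArithSurface_target hX hYreg hYproj hYflat g hiso
  obtain ⟨E, hE⟩ := exists_excCurve_of_not_iso _ hX hY g le_rfl hiso
  exact hne E hE

/-- Euler characteristic of the generic fibre of a model. -/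
theorem euler_generic_nonpos {X : Over (Spec (CommRingCat.of R))} (hX : ArSurf.IsArithSurface R X) {C : Scheme.{u}}
    {f : C ⟶ Spec (CommRingCat.of (FractionRing R))} {g : C ⟶ X.left}
    (hg : IsPullback g f X.hom (Neron.genPt R)) (hC : Curve.IsSmoothProperCurve (FractionRing R) C f)
    (hH0 : IsIso f.appTop) (hgen : 0 < Models.curveGenus (FractionRing R) C f) :
    FGA.eulerCharLE (FractionRing R) ((Neron.genericFibre R).obj X).left
      (Coh.structureModule ((Neron.genericFibre R).obj X).left) 1 ≤ 0 := by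
  obtain ⟨hXi, hXp, hXn⟩ := surf_instances hX
  haveI := hXp
  letI : C.Over (Spec (CommRingCat.of (FractionRing R))) := ⟨f⟩
  haveI : IsProper (C ↘ Spec (CommRingCat.of (FractionRing R))) := hC.1
  letI : (pullback X.hom (Neron.genPt R)).Over (Spec (CommRingCat.of (FractionRing R))) :=
    ⟨((Neron.genericFibre R).obj X).hom⟩
  haveI : IsProper ((pullback X.hom (Neron.genPt R)) ↘ Spec (CommRingCat.of (FractionRing R))) :=
    inferInstanceAs (IsProper (pullback.snd X.hom (Neron.genPt R)))
  have hd : topologicalKrullDim ↥(pullback X.hom (Neron.genPt R)) ≤ ((1 : ℕ) : WithBot ℕ∞) := by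
    refine le_of_le_of_eq ?_ hC.2.2.2
    exact (hg.isoPullback.symm.hom.homeomorph.isInducing.topologicalKrullDim_le)
  haveI : Coh.IsQCoh (Coh.structureModule (pullback X.hom (Neron.genPt R))) := QCohLib.isQCoh_unit
  have h := (VertChiLib.euler_iso (F := FractionRing R) hg.isoPullback hg.isoPullback_hom_snd
    (Coh.structureModule (pullback X.hom (Neron.genPt R)))).2
  have h' := VertChiLib.euler_curve hC hH0
  show FGA.eulerCharLE (FractionRing R) (pullback X.hom (Neron.genPt R)) (Coh.structureModule _) 1 ≤ 0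
  rw [HilbPolyLib.eulerCharLE_eq (k := FractionRing R) hd, ← h]
  refine le_of_eq_of_le h' ?_
  omega

/-- The morphism of models to a surface without exceptional curves. -/
theorem exists_model_map (hext : Extends R) {X X' : Over (Spec (CommRingCat.of R))}
    (hX : ArSurf.IsArithSurface R X) (hX' : ArSurf.IsArithSurface R X')
    (hne : ∀ D : ArSurf.VertComp R X, ¬ Models.IsExcCurve D.ι)
    (hχ : FGA.eulerCharLE (FractionRing R) ((Neron.genericFibre R).obj X).left
      (Coh.structureModule ((Neron.genericFibre R).obj X).left) 1 ≤ 0)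
    {C : Scheme.{u}} {f : C ⟶ Spec (CommRingCat.of (FractionRing R))} {g : C ⟶ X.left} {g' : C ⟶ X'.left}
    (hg : IsPullback g f X.hom (Neron.genPt R)) (hg' : IsPullback g' f X'.hom (Neron.genPt R)) :
    ∃ k : X' ⟶ X, g' ≫ k.left = g := by
  obtain ⟨hXi, hXp, hXn⟩ := surf_instances hX
  obtain ⟨hX'i, hX'p, hX'n⟩ := surf_instances hX'
  haveI := hXi; haveI := hX'i; haveI := hX'p
  haveI := hX'.2.2.2.1
  haveI : IsOpenImmersion (Neron.genPt R) := Groth.Agent.S3250.isOpenImmersion_genPt R
  haveI : IsOpenImmersion g' := MorphismProperty.of_isPullback (P := @IsOpenImmersion) hg'.flip inferInstance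
  let V := g'.opensRange
  have hVne : (V : Set X'.left).Nonempty := by
    obtain ⟨a, ha⟩ : ∃ a, g' a = genericPoint X'.left := by
      have h : X'.hom (genericPoint X'.left) ∈ Set.range (Neron.genPt R) := by
        rw [RelMinSmLib.range_genPt, VertIntLib.genericPoint_over]; rfl
      obtain ⟨t, ht⟩ := h
      obtain ⟨p, hp1, -⟩ := Scheme.Pullback.exists_preimage_pullback (f := X'.hom) (g := Neron.genPt R)
        (genericPoint X'.left) t ht.symm
      exact ⟨hg'.isoPullback.inv p, (congrArg (fun q => q p) (congrArg (·.base) hg'.isoPullback_inv_fst)).trans hp1⟩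
    exact ⟨_, a, ha⟩
  let φ : (V : Scheme.{u}) ⟶ X.left := g'.isoOpensRange.inv ≫ g
  have hφ : φ ≫ X.hom = V.ι ≫ X'.hom := by
    rw [← Iso.cancel_iso_hom_left g'.isoOpensRange]
    simp only [φ, Category.assoc, Iso.hom_inv_id_assoc]
    rw [hg.w, ← hg'.w, ← Category.assoc, Scheme.Hom.isoOpensRange_hom_ι]
  obtain ⟨W₀, w, h, hw, hh, hagree⟩ := hext X' hX' X hX.2.2.2.2 V hVne φ hφ
  obtain ⟨hW, hwi⟩ := isArithSurface_of_seq w hw X'.hom (w ≫ X'.hom) rfl hX'
  let f₂ : Over.mk (w ≫ X'.hom) ⟶ X' := Over.homMk w rfl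
  let f₁ : Over.mk (w ≫ X'.hom) ⟶ X := Over.homMk h hh
  haveI : IsIso ((Neron.genericFibre R).map f₂) := hwi
  let F := ((Neron.genericFibre R).map f₂).left
  haveI : IsIso F := inferInstanceAs (IsIso ((Over.forget _).map ((Neron.genericFibre R).map f₂)))
  let gW : C ⟶ W₀ := (hg'.isoPullback ≪≫ (asIso F).symm).hom ≫ pullback.fst (w ≫ X'.hom) (Neron.genPt R)
  have hF1 : F ≫ pullback.fst X'.hom (Neron.genPt R) = pullback.fst (w ≫ X'.hom) (Neron.genPt R) ≫ w := by
    simp [F, f₂, Neron.genericFibre, Over.pullback]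
  have hF2 : F ≫ pullback.snd X'.hom (Neron.genPt R) = pullback.snd (w ≫ X'.hom) (Neron.genPt R) := by
    simp [F, f₂, Neron.genericFibre, Over.pullback]
  have hgW : gW ≫ w = g' := by
    simp only [gW, Iso.trans_hom, Iso.symm_hom, asIso_inv, Category.assoc]
    rw [← hF1, IsIso.inv_hom_id_assoc, hg'.isoPullback_hom_fst]
  have hgWp : IsPullback gW f (w ≫ X'.hom) (Neron.genPt R) := by
    refine (IsPullback.of_hasPullback (w ≫ X'.hom) (Neron.genPt R)).of_iso (hg'.isoPullback ≪≫ (asIso F).symm).symm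
      (Iso.refl _) (Iso.refl _) (Iso.refl _) ?_ ?_ (by simp) (by simp)
    · rw [Iso.symm_hom, Iso.refl_hom, Category.comp_id, Iso.eq_inv_comp]
    · rw [Iso.symm_hom, Iso.refl_hom, Category.comp_id, Iso.eq_inv_comp, Iso.trans_hom, Iso.symm_hom, asIso_inv,
        Category.assoc, ← hF2, IsIso.inv_hom_id_assoc, hg'.isoPullback_hom_snd]
  have hgWh : gW ≫ h = g := by
    have hr : Set.range gW ⊆ Set.range (w ⁻¹ᵁ V).ι := by
      rw [Scheme.Opens.range_ι]
      rintro _ ⟨c, rfl⟩
      exact ⟨c, (congrArg (fun q : C ⟶ X'.left => q c) hgW).symm⟩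
    let l := IsOpenImmersion.lift (w ⁻¹ᵁ V).ι gW hr
    have hl : l ≫ (w ⁻¹ᵁ V).ι = gW := IsOpenImmersion.lift_fac _ _ _
    have hl' : l ≫ (w ∣_ V) = g'.isoOpensRange.hom := by
      rw [← cancel_mono V.ι, Category.assoc, morphismRestrict_ι, ← Category.assoc, hl, hgW,
        Scheme.Hom.isoOpensRange_hom_ι]
    rw [← hl, Category.assoc, hagree, ← Category.assoc, hl', Iso.hom_inv_id_assoc]
  haveI : IsIso ((Neron.genericFibre R).map f₁) :=
    isIso_generic_of_comp (X := Over.mk (w ≫ X'.hom)) f₁ hgWp (by rw [show f₁.left = h from rfl, hgWh]; exact hg)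
  obtain ⟨ω, hω⟩ := RegConLib.exists_isCanonical hX
  have hnef := (Groth.Agent.S13321.result R X hX hχ ω hω).1 (relMinimal_of_no_exc hX hne)
  obtain ⟨k, hk⟩ := dominate hX hX' (fun _ : X.left => PUnit.unit.{1}) (fun _ : X'.left => PUnit.unit.{1}) ω hω
    (fun D _ => not_lt.2 (hnef D)) _ hW f₁ f₂ (fun _ => rfl) le_rfl
  refine ⟨k, ?_⟩
  have hk' : w ≫ k.left = h := congrArg CommaMorphism.left hk
  rw [← hgW, Category.assoc, hk', hgWh]

/-- Morphisms of models are unique. -/
theorem model_map_ext {X X' : Over (Spec (CommRingCat.of R))} (hX : ArSurf.IsArithSurface R X)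
    (hX' : ArSurf.IsArithSurface R X') {C : Scheme.{u}} {f : C ⟶ Spec (CommRingCat.of (FractionRing R))}
    {g' : C ⟶ X'.left} (hg' : IsPullback g' f X'.hom (Neron.genPt R)) [Nonempty C] {k k' : X' ⟶ X}
    (h : g' ≫ k.left = g' ≫ k'.left) : k = k' := by
  obtain ⟨hXi, hXp, hXn⟩ := surf_instances hX
  obtain ⟨hX'i, hX'p, hX'n⟩ := surf_instances hX'
  haveI := hXp; haveI := hX'i
  haveI : IsOpenImmersion (Neron.genPt R) := Groth.Agent.S3250.isOpenImmersion_genPt R
  haveI : IsOpenImmersion g' := MorphismProperty.of_isPullback (P := @IsOpenImmersion) hg'.flip inferInstance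
  haveI : IsDominant g' := ⟨g'.isOpenEmbedding.isOpen_range.dense (Set.range_nonempty _)⟩
  exact Over.OverMorphism.ext (ext_of_isDominant_of_isSeparated X.hom ((Over.w k).trans (Over.w k').symm) g' h)

end MinModLib

end
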