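import Groth.Agent.MinModLib.Images
import Groth.Agent.CanonBlowLib.Main
import Groth.Agent.SymSqLib.Pic
import Groth.Agent.BlowUpLib.Cartier
import Groth.Agent.AlgSpRegLib.CutByApps
import Groth.Agent.AlgSpRegLib.ImageReduced

/-!
# The total transform of a curve under a point blow-up
-/

set_option autoImplicit false
set_option linter.style.haveILetI false
set_option linter.unusedSectionVars false
set_option maxHeartbeats 2000000
set_option backward.isDefEq.respectTransparency false
set_option backward.isDefEq.respectTransparency.types false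
universe u

open CategoryTheory CategoryTheory.Limits AlgebraicGeometry TopologicalSpace Topology IsLocalRing
open CubeConsLib

noncomputable section

namespace MinModLib

open PtBlowFactLib

variable {R : Type u} [CommRing R] [IsDomain R] [IsDiscreteValuationRing R]

/-- Along an open immersion the class of an ideal is that of the reduced preimage. -/
theorem pull_ideal_class {U X : Scheme.{u}} (j : U ⟶ X) [IsOpenImmersion j] {W : Scheme.{u}} [IsReduced W]
    (i : W ⟶ X) [IsClosedImmersion i] (hI : BlowUp.IsEffCartierIdeal i.ker) (T : Closeds U)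
    (hT : (T : Set U) = j ⁻¹' Set.range i) :
    pull j (cl (ClSub.idealMod i.ker)) = cl (ClSub.idealMod (Scheme.IdealSheafData.vanishingIdeal T)) := by
  have hK : PicF.IsInvertible (ClSub.idealMod i.ker) := IntMultLib.isInvertible_idealMod _ hI
  have hJ : PicF.IsInvertible (ClSub.idealMod (i.ker.comap j)) :=
    IntMultLib.isInvertible_idealMod _ (BlowUpLib.isEffCartier_comap_of_flat j hI)
  have heq : i.ker.comap j = Scheme.IdealSheafData.vanishingIdeal T := by
    rw [AlgSpRegLib.ker_eq_vanishingIdeal i, AlgSpRegLib.comap_vanishingIdeal_etale j]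
    congr 1
    refine Closeds.ext ?_
    rw [hT]
    show j ⁻¹' closure (Set.range i) = j ⁻¹' Set.range i
    rw [i.isClosedEmbedding.isClosed_range.closure_eq]
  rw [pull_cl, ← heq]
  exact cl_eq_iff.2 (SymSqLib.nonempty_pb_ideal j i.ker hK hJ)

set_option maxHeartbeats 4000000 in
/-- The total transform of the image of a curve is the curve plus a multiple of the exceptional curve. -/
theorem pullback_curve {X Y : Scheme.{u}} (b : X ⟶ Y) (p : Y ⟶ Spec (CommRingCat.of R))
    (hY : ArSurf.IsArithSurface R (Over.mk p)) (y : Y) (hy : IsClosed ({y} : Set Y)) (hys : p y = closedPoint R)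
    (hb : BlowUp.IsBlowUp b (Scheme.IdealSheafData.vanishingIdeal ⟨{y}, hy⟩))
    (E C : ArSurf.VertComp R (Over.mk (b ≫ p)))
    (hpre : b ⁻¹' {y} = Set.range (E.ι.base : E.curve.left → X))
    (hne : Set.range (C.ι.base : C.curve.left → X) ≠ Set.range (E.ι.base : E.curve.left → X))
    (D : ArSurf.VertComp R (Over.mk p))
    (hD : Set.range (D.ι.base : D.curve.left → Y) = b '' Set.range (C.ι.base : C.curve.left → X))
    (LE LC : X.Modules) (hLE : ClSub.IsInverseOf LE (ClSub.idealMod E.ι.ker))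
    (hLC : ClSub.IsInverseOf LC (ClSub.idealMod C.ι.ker))
    (LD : Y.Modules) (hLD : ClSub.IsInverseOf LD (ClSub.idealMod D.ι.ker)) :
    ∃ a : ℕ, (a : ℤ) * (-ArSurf.inter R (Over.mk (b ≫ p)) LE E) = ArSurf.inter R (Over.mk (b ≫ p)) LC E ∧
      cl ((Scheme.Modules.pullback b).obj LD) = cl (CohB1.tensorMod LC (CohB1.tensorPow LE a)) := by
  have hX : ArSurf.IsArithSurface R (Over.mk (b ≫ p)) := CanonBlowLib.isArithSurface (Over.mk p) hY y hy hys b hb E hpre.symm
  haveI := hX.2.2.2.1
  haveI := hY.2.2.2.1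
  obtain ⟨hYi, hYp, hYn⟩ := surf_instances hY
  haveI := hYi; haveI := hYp
  haveI : IsNoetherian Y := hYn
  haveI : IsIntegral Y := hYi
  obtain ⟨hXi, hXp, hXn⟩ := surf_instances hX
  haveI : IsIntegral X := hXi
  haveI : IsIntegral (Over.mk (b ≫ p)).left := hXi
  haveI : IsIntegral (Over.mk p).left := hYi
  haveI : IsProper (Over.mk (b ≫ p)).hom := hXp
  haveI : IsProper (b ≫ p) := hXp
  haveI : IsNoetherian X := hXn
  haveI : IsProper b := BlowRegLib.isProper_b hb
  obtain ⟨-, hEc, -, e, -, -⟩ := BlowRegLib.arith_exc hY hy hb E hpre.symm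
  haveI := VertIntLib.isProper_curve E
  obtain ⟨hexc, -, -, hself⟩ := BlowRegLib.arith_exc_numbers hY hy hb E hpre.symm hys LE hLE
  have hCc := VertIntLib.isEffCartier_ker hX.1 C (VertIntLib.isFibGen_of_dim hX.2.2.1.le C)
  have hDc := VertIntLib.isEffCartier_ker hY.1 D (VertIntLib.isFibGen_of_dim hY.2.2.1.le D)
  let IE : X.Modules := ClSub.idealMod E.ι.ker
  let IC : X.Modules := ClSub.idealMod C.ι.ker
  let ID : Y.Modules := ClSub.idealMod D.ι.ker
  have hIEi : PicF.IsInvertible IE := IntMultLib.isInvertible_idealMod _ hEc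
  have hICi : PicF.IsInvertible IC := IntMultLib.isInvertible_idealMod _ hCc
  have hIDi : PicF.IsInvertible ID := IntMultLib.isInvertible_idealMod _ hDc
  have hLEI : cl LE * cl IE = 1 := by rw [← cl_tensor]; exact cl_eq_one_iff.2 hLE
  have hLCI : cl LC * cl IC = 1 := by rw [← cl_tensor]; exact cl_eq_one_iff.2 hLC
  have hLDI : cl LD * cl ID = 1 := by rw [← cl_tensor]; exact cl_eq_one_iff.2 hLD
  have hLDi : PicF.IsInvertible LD := VertIntLib.isInvertible_inverse hDc hLD
  have hLCi : PicF.IsInvertible LC := VertIntLib.isInvertible_inverse hCc hLC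
  have hLEi : PicF.IsInvertible LE := VertIntLib.isInvertible_inverse hEc hLE
  -- the coefficient
  have hw := (VertChiLib.dvd_inter E).1
  have hselfw : ArSurf.inter R (Over.mk (b ≫ p)) LE E = -(Models.wdeg R (Over.mk (b ≫ p)) E : ℤ) :=
    ((VertChiLib.isExcCurve_iff (X := Over.mk (b ≫ p)) E hEc hLE).1 hexc).2
  obtain ⟨c, hc⟩ := (VertChiLib.dvd_inter E).2.2 LC
  have hc0 : 0 ≤ c := by
    have h0 := inter_nonneg_of_ne hX C E hne.symm LC hLC
    rw [hc] at h0
    by_contra h
    nlinarith [(Nat.cast_pos (α := ℤ)).2 hw]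
  obtain ⟨a, rfl⟩ := Int.eq_ofNat_of_zero_le hc0
  refine ⟨a, by rw [hselfw, hc, neg_neg, mul_comm], ?_⟩
  -- a module trivial on the exceptional curve
  have hfD : PicF.IsInvertible ((Scheme.Modules.pullback b).obj LD) := AmpleDevLib.isInvertible_pb b hLDi
  have hpow := (VertIntLib.pow_spec (X := Over.mk (b ≫ p)) hIEi E a).1
  let F := CohB1.tensorMod (CohB1.tensorMod ((Scheme.Modules.pullback b).obj LD) IC) (CohB1.tensorPow IE a)
  have hFi : PicF.IsInvertible F := HilbPolyLib.isInvertible_tensor (HilbPolyLib.isInvertible_tensor hfD hICi) hpow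
  have hneg : ∀ {L I : X.Modules}, PicF.IsInvertible L → PicF.IsInvertible I → cl L * cl I = 1 →
      ArSurf.inter R (Over.mk (b ≫ p)) I E = -ArSurf.inter R (Over.mk (b ≫ p)) L E := fun {L I} hL hI h1 => by
    have h := VertIntLib.inter_tensor (X := Over.mk (b ≫ p)) hL hI E
    rw [VertIntLib.inter_congr (X := Over.mk (b ≫ p)) (M := CohB1.tensorMod L I)
      (N := Coh.structureModule X) (by rw [cl_tensor]; exact h1) E] at h
    have h0 := h.symm.trans (VertIntLib.inter_structure (X := Over.mk (b ≫ p)) E)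
    linarith
  let bo : Over.mk (b ≫ p) ⟶ Over.mk p := Over.homMk b rfl
  have hEy : ∀ c', b (E.ι c') = y := fun c' => hpre.ge ⟨c', rfl⟩
  have hpull0 : ArSurf.inter R (Over.mk (b ≫ p)) ((Scheme.Modules.pullback b).obj LD) E = 0 := by
    refine Groth.Agent.S7935.result R (Over.mk (b ≫ p)) (Over.mk p) hX hY bo ?_ E y ?_ LD hLDi
    · refine Function.Surjective.denseRange fun w => ?_
      by_cases hw' : w = y
      · obtain ⟨c'⟩ := (inferInstance : Nonempty E.curve.left)
        exact ⟨E.ι c', (hEy c').trans hw'.symm⟩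
      · haveI := CanonBlowLib.iso_off (Over.mk p) b y hy hb
        obtain ⟨x, hx⟩ := (b ∣_ (⟨{y}ᶜ, hy.isOpen_compl⟩ : Y.Opens)).homeomorph.surjective ⟨w, hw'⟩
        exact ⟨x.1, (morphismRestrict_base_coe b _ x).symm.trans (congrArg Subtype.val hx)⟩
    · refine Set.Subset.antisymm (Set.range_subset_iff.2 hEy) ?_
      rintro _ rfl
      obtain ⟨c'⟩ := (inferInstance : Nonempty E.curve.left)
      exact ⟨c', hEy c'⟩
  have hF0 : ArSurf.inter R (Over.mk (b ≫ p)) F E = 0 := by
    rw [VertIntLib.inter_tensor (X := Over.mk (b ≫ p)) (HilbPolyLib.isInvertible_tensor hfD hICi) hpow E,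
      VertIntLib.inter_tensor (X := Over.mk (b ≫ p)) hfD hICi E, hpull0,
      (VertIntLib.pow_spec (X := Over.mk (b ≫ p)) hIEi E a).2, hneg hLCi hICi hLCI, hneg hLEi hIEi hLEI, hselfw, hc]
    ring
  rw [VertIntLib.inter_eq_deg] at hF0
  obtain ⟨t⟩ := CanonBlowLib.line_trivial (F := ResidueField R) e (AmpleDevLib.isInvertible_pb E.ι hFi) hF0
  obtain ⟨M, hM, ⟨eM⟩⟩ := (Groth.Agent.S7929.result R (Over.mk p) hY y hy hys b hb E hpre.symm).2 F hFi ⟨t⟩
  have hclpow : cl (CohB1.tensorPow IE a) = cl IE ^ a := VertIntLib.cl_tensorPow IE a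
  have hclF : cl F = pull b (cl LD) * cl IC * cl IE ^ a := by
    rw [pull_cl, ← hclpow, ← cl_tensor, ← cl_tensor]
  -- `M` is trivial away from `y`
  let W : Y.Opens := ⟨{y}ᶜ, hy.isOpen_compl⟩
  haveI := CanonBlowLib.iso_off (Over.mk p) b y hy hb
  have hMW : Nonempty (M.restrict W.ι ≅ Coh.structureModule (W : Scheme.{u})) := by
    let s : (W : Scheme.{u}) ⟶ X := inv (b ∣_ W) ≫ (b ⁻¹ᵁ W).ι
    have hs : s ≫ b = W.ι := by
      show (inv (b ∣_ W) ≫ (b ⁻¹ᵁ W).ι) ≫ b = W.ι
      rw [Category.assoc, ← morphismRestrict_ι, IsIso.inv_hom_id_assoc]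
    have hsb : ∀ v, b (s v) = v.1 := fun v => by rw [← Scheme.Hom.comp_apply, hs]; rfl
    have hE0 : pull s (cl IE) = 1 := by
      rw [pull_cl]
      refine CubeConsLib.cl_eq_one_iff.2 (BlowPtLib.nonempty_pb_ideal_trivial s E.ι.ker hIEi fun v hv => ?_)
      have h3 : s v ∈ (E.ι.ker.support : Set (Over.mk (b ≫ p)).left) := hv
      rw [Scheme.Hom.support_ker, E.ι.isClosedEmbedding.isClosed_range.closure_eq] at h3
      exact v.2 ((hsb v).symm.trans (hpre.ge h3))
    let T : Closeds (W : Scheme.{u}) := ⟨W.ι ⁻¹' Set.range (D.ι.base : D.curve.left → Y),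
      D.ι.isClosedEmbedding.isClosed_range.preimage W.ι.continuous⟩
    have hT : (T : Set (W : Scheme.{u})) = s ⁻¹' Set.range (C.ι.base : C.curve.left → X) := by
      show W.ι ⁻¹' Set.range (D.ι.base : D.curve.left → Y) = _
      rw [hD]
      ext v
      constructor
      · rintro ⟨x, hx, hxv⟩
        have hv : b (s v) = b x := (hsb v).trans hxv.symm
        have hne' : b (s v) ≠ y := fun h => v.2 ((hsb v).symm.trans h)
        refine Set.mem_preimage.2 ?_
        rw [inj_off b hy hne' (fun h => hne' (hv.trans h)) hv]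
        exact hx
      · intro hv
        exact ⟨s v, hv, hsb v⟩
    have hCD : pull s (cl IC) = pull W.ι (cl ID) :=
      (pull_ideal_class s C.ι hCc T hT).trans (pull_ideal_class W.ι D.ι hDc T rfl).symm
    refine CubeConsLib.cl_eq_one_iff.1 ?_
    rw [show cl (M.restrict W.ι) = pull W.ι (cl M) from
      cl_eq_iff.2 ⟨(Scheme.Modules.restrictFunctorIsoPullback W.ι).app M⟩]
    calc pull W.ι (cl M) = pull s (pull b (cl M)) := by rw [pull_comp, hs]
      _ = pull s (pull b (cl LD) * cl IC * cl IE ^ a) := by rw [pull_cl b M, cl_eq_iff.2 ⟨eM⟩, hclF]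
      _ = pull W.ι (cl LD) * pull W.ι (cl ID) := by
        rw [map_mul, map_mul, map_pow, hE0, one_pow, mul_one, pull_comp, hs, hCD]
      _ = 1 := by rw [← map_mul, hLDI, map_one]
  have hdimy : (2 : WithBot ℕ∞) ≤ ringKrullDim (Y.presheaf.stalk y) := by
    have h := (BlowRegLib.arith_exc hY hy hb E hpre.symm).1
    exact le_of_eq (h.symm.trans rfl) |>.trans le_rfl
  have hTn : ∀ v : Y, IsDomain (Y.presheaf.stalk v) ∧ IsIntegrallyClosed (Y.presheaf.stalk v) := fun v => by
    haveI : IsRegularLocalRing (Y.presheaf.stalk v) := hY.1 v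
    exact ⟨CommAlgDim.isDomain_of_isRegularLocalRing _, Groth.Agent.S9829.result _⟩
  obtain ⟨eM1⟩ := (BlowRegLib.BigOpenPic.sections_and_pic Y hTn W (fun v hv => by
    have hv' : v = y := not_not.1 hv
    rw [hv']; exact hdimy) M hM).2 hMW
  have key : pull b (cl LD) * cl IC * cl IE ^ a = 1 := by
    rw [← hclF, ← cl_eq_iff.2 ⟨eM⟩, ← pull_cl, CubeConsLib.cl_eq_one_iff.2 ⟨eM1⟩, map_one]
  rw [← pull_cl, cl_tensor, VertIntLib.cl_tensorPow]
  calc pull b (cl LD) = pull b (cl LD) * ((cl LC * cl IC) * (cl LE * cl IE) ^ a) := by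
        rw [hLCI, hLEI, one_pow, mul_one, mul_one]
    _ = (cl LC * cl LE ^ a) * (pull b (cl LD) * cl IC * cl IE ^ a) := by rw [mul_pow]; ac_rfl
    _ = cl LC * cl LE ^ a := by rw [key, mul_one]

end MinModLib
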