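import Groth.Agent.MinModLib.Step
import Groth.Agent.CanonBlowLib.Main
import Groth.Agent.RegConLib.Genus
import Groth.Agent.RegConLib.Nhd
import Groth.Agent.VertChiLib.Exc

/-!
# The canonical sheaf under birational morphisms of arithmetic surfaces
-/

set_option autoImplicit false
set_option linter.style.haveILetI false
set_option linter.unusedSectionVars false
set_option maxHeartbeats 2000000
set_option backward.isDefEq.respectTransparency false
set_option backward.isDefEq.respectTransparency.types false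
universe u

open CategoryTheory CategoryTheory.Limits AlgebraicGeometry TopologicalSpace Topology IsLocalRing
open CubeConsLib

noncomputable section

namespace MinModLib

open PtBlowFactLib

variable {R : Type u} [CommRing R] [IsDomain R] [IsDiscreteValuationRing R]

theorem denseRange_left {X Y : Over (Spec (CommRingCat.of R))} (hX : ArSurf.IsArithSurface R X)
    (hY : ArSurf.IsArithSurface R Y) (f : X ⟶ Y) [IsIso ((Neron.genericFibre R).map f)] :
    DenseRange f.left.base := by
  obtain ⟨hXi, hXp, hXn⟩ := surf_instances hX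
  obtain ⟨hYi, hYp, hYn⟩ := surf_instances hY
  haveI := hXi; haveI := hXp; haveI := hXn; haveI := hYi; haveI := hYp; haveI := hYn
  haveI := hX.2.2.2.1
  haveI := hY.2.2.2.1
  obtain ⟨W, -, -, hdom⟩ := exists_birational_open f fun q => haveI := hY.1 q; Groth.Agent.S9829.result _
  refine dense_iff_closure_eq.2 (Set.eq_univ_of_univ_subset ?_)
  rw [← (genericPoint_spec Y.left).def]
  exact closure_mono (Set.singleton_subset_iff.2 ⟨_, hdom⟩)

/-- An exceptional curve meets the canonical sheaf negatively. -/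
theorem inter_canonical_exc {X : Over (Spec (CommRingCat.of R))} (hX : ArSurf.IsArithSurface R X)
    (E : ArSurf.VertComp R X) (hE : Models.IsExcCurve E.ι) (ω : X.left.Modules) (hω : Canon.IsCanonical X.hom ω) :
    ArSurf.inter R X ω E < 0 := by
  obtain ⟨hXi, hXp, hXn⟩ := surf_instances hX
  haveI := hXi; haveI := hXp; haveI := hXn
  haveI := hX.2.2.2.1
  have hEc := VertIntLib.isEffCartier_ker hX.1 E (VertIntLib.isFibGen_of_dim hX.2.2.1.le E)
  have hIi : PicF.IsInvertible (ClSub.idealMod E.ι.ker) := IntMultLib.isInvertible_idealMod _ hEc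
  let L := MiscFlat6.dual (ClSub.idealMod E.ι.ker)
  have hL' : ClSub.IsInverseOf L (ClSub.idealMod E.ι.ker) := by
    refine cl_eq_one_iff.1 ?_
    rw [cl_tensor, mul_comm, ← cl_tensor]
    exact cl_eq_one_iff.2 (MiscFlat6.nonempty_dualIso hIi)
  obtain ⟨h1, h2⟩ := (VertChiLib.isExcCurve_iff E hEc hL').1 hE
  have hK := RegConLib.inter_add_inter_cst hX E L hL' ω hω
  have hw := (VertChiLib.dvd_inter E).1
  rw [h2, VertChiLib.cst, h1, Nat.cast_zero, sub_zero] at hK
  omega

/-- On a curve which is not contracted the canonical sheaf is at least the pullback of the one below. -/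
theorem inter_canonical_le : ∀ (m : ℕ) {X Y : Over (Spec (CommRingCat.of R))}
    (_hX : ArSurf.IsArithSurface R X) (_hY : ArSurf.IsArithSurface R Y) (f : X ⟶ Y)
    [IsIso ((Neron.genericFibre R).map f)],
    {Z ∈ Models.fibreComponents R X | (f.left '' Z).Subsingleton}.ncard ≤ m →
    ∀ (ωX : X.left.Modules) (_hωX : Canon.IsCanonical X.hom ωX) (ωY : Y.left.Modules)
      (_hωY : Canon.IsCanonical Y.hom ωY) (C : ArSurf.VertComp R X),
      ¬ (f.left '' Set.range (C.ι.base : C.curve.left → X.left)).Subsingleton →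
      ArSurf.inter R X ((Scheme.Modules.pullback f.left).obj ωY) C ≤ ArSurf.inter R X ωX C := by
  intro m
  induction m using Nat.strong_induction_on with
  | _ m ih =>
  intro X Y hX hY f _ hm ωX hωX ωY hωY C hC
  obtain ⟨hXi, hXp, hXn⟩ := surf_instances hX
  obtain ⟨hYi, hYp, hYn⟩ := surf_instances hY
  haveI := hXi; haveI := hXp; haveI := hXn; haveI := hYi; haveI := hYp; haveI := hYn
  haveI := hX.2.2.2.1
  haveI := hY.2.2.2.1
  by_cases hf : IsIso f.left
  · haveI := hf
    have h := CanonRestrLib.isCanonical_comp f.left hωY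
    rw [Over.w f] at h
    obtain ⟨a⟩ := CanonRestrLib.nonempty_iso h hωX
    exact le_of_eq (VertIntLib.inter_congr (cl_eq_iff.2 ⟨a⟩) C)
  obtain ⟨y, hy, hys, Y', π, g, p, hπ, hp, hgp, hY', hgi, F, Γ₀, hF, -, hlt⟩ := step hX hY f hf
  haveI := hgi
  obtain ⟨hY'i, hY'p, hY'n⟩ := surf_instances hY'
  haveI := hY'i; haveI := hY'p; haveI := hY'n
  haveI := hY'.2.2.2.1
  haveI := isProper_hom g
  have hFc := VertIntLib.isEffCartier_ker hY'.1 F (VertIntLib.isFibGen_of_dim hY'.2.2.1.le F)
  have hIi : PicF.IsInvertible (ClSub.idealMod F.ι.ker) := IntMultLib.isInvertible_idealMod _ hFc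
  let L := MiscFlat6.dual (ClSub.idealMod F.ι.ker)
  have hLi : PicF.IsInvertible L := MiscFlat6.dual_isInvertible hIi
  have hL' : ClSub.IsInverseOf L (ClSub.idealMod F.ι.ker) := by
    refine cl_eq_one_iff.1 ?_
    rw [cl_tensor, mul_comm, ← cl_tensor]
    exact cl_eq_one_iff.2 (MiscFlat6.nonempty_dualIso hIi)
  obtain ⟨ωY', hωY'⟩ := RegConLib.exists_isCanonical hY'
  obtain ⟨a⟩ := CanonBlowLib.canonical_blowUp Y hY y hy hys π hπ F hF L hL' ωY hωY ωY' hωY'
  have hgC : ¬ (g.left '' Set.range (C.ι.base : C.curve.left → X.left)).Subsingleton := fun h => hC (by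
    rw [← hgp, Over.comp_left, Scheme.Hom.comp_base, TopCat.coe_comp, Set.image_comp]
    exact h.image _)
  refine le_trans ?_ (ih _ (lt_of_lt_of_le hlt hm) hX hY' g le_rfl ωX hωX ωY' hωY' C hgC)
  obtain ⟨D, hD, hDg⟩ := exists_image hY' g C hgC
  have hne : Set.range (D.ι.base : D.curve.left → (Over.mk (π ≫ Y.hom)).left) ≠
      Set.range (F.ι.base : F.curve.left → (Over.mk (π ≫ Y.hom)).left) := fun h => hC (by
    refine Set.Subsingleton.anti (Set.subsingleton_singleton (a := y)) ?_
    rw [← hgp, Over.comp_left, Scheme.Hom.comp_base, TopCat.coe_comp, Set.image_comp, ← hD, h]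
    rintro _ ⟨z, hz, rfl⟩
    rw [hp]
    exact hF.le hz)
  have hLinv : PicF.IsInvertible L := hLi
  obtain ⟨d, hd⟩ := inter_pullback g C D (hD.symm.le) hDg hLinv
  have hnonneg := inter_nonneg_of_ne hY' F D hne L hL'
  have hωYi : PicF.IsInvertible ωY := RegConLib.isInvertible_of_isCanonical hωY
  have hωY'i : PicF.IsInvertible ωY' := RegConLib.isInvertible_of_isCanonical hωY'
  let P : (Over.mk (π ≫ Y.hom)).left.Modules := (Scheme.Modules.pullback π).obj ωY
  have hPi : PicF.IsInvertible P := AmpleDevLib.isInvertible_pb π hωYi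
  have hcl : cl ((Scheme.Modules.pullback g.left).obj ωY') =
      cl (CohB1.tensorMod ((Scheme.Modules.pullback f.left).obj ωY) ((Scheme.Modules.pullback g.left).obj L)) := by
    have h1 : cl ωY' = cl P * cl L := by rw [← cl_tensor]; exact cl_eq_iff.2 ⟨a⟩
    rw [cl_tensor, ← pull_cl, ← pull_cl f.left, ← pull_cl g.left, h1, map_mul]
    congr 1
    show pull g.left (cl P) = _
    rw [← pull_cl, pull_comp]
    rw [← hgp, Over.comp_left, hp]
  rw [VertIntLib.inter_congr hcl C, VertIntLib.inter_tensor (AmpleDevLib.isInvertible_pb f.left hωYi)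
    (AmpleDevLib.isInvertible_pb g.left hLinv) C, hd]
  nlinarith [Int.natCast_nonneg d]

/-- If an exceptional curve maps onto a curve, the canonical degree of the latter is negative. -/
theorem exists_neg_of_exc {X Y : Over (Spec (CommRingCat.of R))} (hX : ArSurf.IsArithSurface R X)
    (hY : ArSurf.IsArithSurface R Y) (f : X ⟶ Y) [IsIso ((Neron.genericFibre R).map f)]
    (E : ArSurf.VertComp R X) (hE : Models.IsExcCurve E.ι)
    (hf : ¬ (f.left '' Set.range (E.ι.base : E.curve.left → X.left)).Subsingleton)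
    (ωY : Y.left.Modules) (hωY : Canon.IsCanonical Y.hom ωY) :
    ∃ D : ArSurf.VertComp R Y, Set.range (D.ι.base : D.curve.left → Y.left) =
      f.left '' Set.range (E.ι.base : E.curve.left → X.left) ∧ ArSurf.inter R Y ωY D < 0 := by
  obtain ⟨hXi, hXp, hXn⟩ := surf_instances hX
  obtain ⟨hYi, hYp, hYn⟩ := surf_instances hY
  haveI := hXi; haveI := hXp; haveI := hXn; haveI := hYi; haveI := hYp; haveI := hYn
  haveI := isProper_hom f
  obtain ⟨ωX, hωX⟩ := RegConLib.exists_isCanonical hX
  obtain ⟨D, hD, hDg⟩ := exists_image hY f E hf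
  refine ⟨D, hD, ?_⟩
  obtain ⟨d, hd⟩ := inter_pullback f E D hD.symm.le hDg (RegConLib.isInvertible_of_isCanonical hωY)
  have h1 := inter_canonical_le _ hX hY f le_rfl ωX hωX ωY hωY E hf
  have h2 := inter_canonical_exc hX E hE ωX hωX
  by_contra h3
  have h4 := mul_nonneg (Int.natCast_nonneg d) (not_lt.1 h3)
  linarith

end MinModLib
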