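import Groth.Agent.MinModLib.Step
import Groth.Agent.CanonBlowLib.Main
import Groth.Agent.GenusZeroLib.PSpace

/-!
# Composites of contractions over an arithmetic surface
-/

set_option autoImplicit false
set_option linter.style.haveILetI false
set_option linter.unusedSectionVars false
set_option maxHeartbeats 2000000
set_option backward.isDefEq.respectTransparency false
set_option backward.isDefEq.respectTransparency.types false
universe u

open CategoryTheory CategoryTheory.Limits AlgebraicGeometry TopologicalSpace Topology IsLocalRing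

noncomputable section

namespace MinModLib

open PtBlowFactLib

variable {R : Type u} [CommRing R] [IsDomain R] [IsDiscreteValuationRing R]

theorem isArithSurface_of_iso {X : Over (Spec (CommRingCat.of R))} (hX : ArSurf.IsArithSurface R X) {W : Scheme.{u}}
    (e : W ≅ X.left) : ArSurf.IsArithSurface R (Over.mk (e.hom ≫ X.hom)) := by
  obtain ⟨hreg, hint, hdim, hflat, n, i, hi, hiw⟩ := hX
  haveI := hint
  haveI := hflat
  haveI := hi
  haveI : IsIntegral W := by
    haveI : Nonempty W := ⟨e.inv (genericPoint X.left)⟩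
    exact isIntegral_of_isOpenImmersion e.hom
  refine ⟨fun w => ?_, ‹IsIntegral W›, ?_, inferInstanceAs (Flat (e.hom ≫ X.hom)), n, e.hom ≫ i,
    inferInstanceAs (IsClosedImmersion (e.hom ≫ i)), ?_⟩
  · haveI := hreg (e.hom w)
    exact IsRegularLocalRing.of_ringEquiv (asIso (e.hom.stalkMap w)).commRingCatIsoToRingEquiv
  · exact (IsHomeomorph.topologicalKrullDim_eq _ e.hom.homeomorph.isHomeomorph).trans hdim
  · show (e.hom ≫ i) ≫ _ = _
    rw [Category.assoc, hiw]; rfl

theorem over_closedPoint_of_closed {X : Over (Spec (CommRingCat.of R))} [IsProper X.hom] (y : X.left)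
    (hy : IsClosed ({y} : Set X.left)) : X.hom y = closedPoint R := by
  have h1 : IsClosed ({X.hom y} : Set (Spec (CommRingCat.of R))) := by
    have := X.hom.isClosedMap _ hy
    rwa [Set.image_singleton] at this
  exact PrimeSpectrum.ext (eq_maximalIdeal ((PrimeSpectrum.isClosed_singleton_iff_isMaximal _).1 h1))

/-- The exceptional curve as a vertical curve. -/
theorem exists_excComp' {Y : Over (Spec (CommRingCat.of R))} (hY : ArSurf.IsArithSurface R Y) (y : Y.left)
    (hy : IsClosed ({y} : Set Y.left)) (hys : Y.hom y = closedPoint R)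
    (hd2 : ringKrullDim (Y.left.presheaf.stalk y) = ((1 + 1 : ℕ) : WithBot ℕ∞))
    {Y' : Scheme.{u}} (π : Y' ⟶ Y.left)
    (hπ : BlowUp.IsBlowUp π (Scheme.IdealSheafData.vanishingIdeal ⟨{y}, hy⟩)) :
    ∃ F : ArSurf.VertComp R (Over.mk (π ≫ Y.hom)), Set.range (F.ι.base : F.curve.left → Y') = π ⁻¹' {y} := by
  obtain ⟨hYi, hYp, hYn⟩ := surf_instances hY
  haveI := hYi; haveI := hYp; haveI := hYn
  haveI := hY.1 y
  have hsupp : ((Scheme.IdealSheafData.vanishingIdeal ⟨{y}, hy⟩).support : Set Y.left) = {y} :=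
    Scheme.IdealSheafData.coe_support_vanishingIdeal _
  obtain ⟨φ, hφ, -, -⟩ := BlowRegLib.exc_point y hy 1 hd2 hπ
  haveI := hφ
  have hJ : Set.range ((Scheme.IdealSheafData.vanishingIdeal ⟨{y}, hy⟩).comap π).subschemeι = π ⁻¹' {y} := by
    rw [Scheme.IdealSheafData.range_subschemeι, Scheme.IdealSheafData.support_comap, Closeds.coe_preimage, hsupp]
  let J := ((Scheme.IdealSheafData.vanishingIdeal ⟨{y}, hy⟩).comap π).subscheme
  let ι : J ⟶ Y' := ((Scheme.IdealSheafData.vanishingIdeal ⟨{y}, hy⟩).comap π).subschemeι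
  haveI : IsIntegral (CohB1.ProjSpace 1 (Y.left.residueField y)) := inferInstance
  haveI : IsIntegral J := by
    haveI : Nonempty J := ⟨(inv φ) (genericPoint (CohB1.ProjSpace 1 (Y.left.residueField y)))⟩
    exact isIntegral_of_isOpenImmersion φ
  haveI : IsClosedImmersion (Spec.map (CommRingCat.ofHom (residue R))) :=
    IsClosedImmersion.spec_of_surjective _ residue_surjective
  have hrange : Set.range (ι ≫ π ≫ Y.hom) ⊆ Set.range (Spec.map (CommRingCat.ofHom (residue R))) := by
    rintro _ ⟨c, rfl⟩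
    refine ⟨closedPoint (ResidueField R), ?_⟩
    rw [Scheme.Hom.comp_apply, Scheme.Hom.comp_apply, show π (ι c) = y from hJ.le ⟨c, rfl⟩, hys]
    haveI : IsLocalHom (CommRingCat.ofHom (residue R)).hom := inferInstanceAs (IsLocalHom (residue R))
    exact IsLocalRing.comap_closedPoint _
  let h : J ⟶ Spec (CommRingCat.of (ResidueField R)) :=
    IsClosedImmersion.lift (Spec.map (CommRingCat.ofHom (residue R))) (ι ≫ π ≫ Y.hom)
      (DvrProperLib.ker_le_ker_of_range_subset _ _ hrange)
  refine ⟨⟨Over.mk h, ι, inferInstanceAs (IsClosedImmersion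
    ((Scheme.IdealSheafData.vanishingIdeal ⟨{y}, hy⟩).comap π).subschemeι), ‹IsIntegral J›, ?_,
    (IsClosedImmersion.lift_fac _ _ _).symm⟩, hJ⟩
  exact (IsHomeomorph.topologicalKrullDim_eq _ φ.homeomorph.isHomeomorph).trans (GenusZeroLib.dim_projSpace _ _)

/-- A composite of contractions onto an arithmetic surface is a morphism of arithmetic surfaces. -/
theorem isArithSurface_of_seq {W Z : Scheme.{u}} (f : W ⟶ Z) (hf : Models.IsContractionSeq f) :
    ∀ (p : Z ⟶ Spec (CommRingCat.of R)) (q : W ⟶ Spec (CommRingCat.of R)) (hq : f ≫ p = q),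
      ArSurf.IsArithSurface R (Over.mk p) → ArSurf.IsArithSurface R (Over.mk q) ∧
      IsIso ((Neron.genericFibre R).map (Over.homMk f hq : Over.mk q ⟶ Over.mk p)) := by
  induction hf with
  | iso e =>
    intro p q hq hp
    subst hq
    refine ⟨isArithSurface_of_iso hp e, ?_⟩
    haveI : IsIso ((Over.forget _).map (Over.homMk e.hom rfl : Over.mk (e.hom ≫ p) ⟶ Over.mk p)) :=
      inferInstanceAs (IsIso e.hom)
    haveI := isIso_of_reflects_iso (Over.homMk e.hom rfl : Over.mk (e.hom ≫ p) ⟶ Over.mk p) (Over.forget _)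
    infer_instance
  | @step Y Z X E ι b r hι hE hb hr ih =>
    intro p q hq hp
    obtain rfl : b ≫ r ≫ p = q := (Category.assoc b r p).symm.trans hq
    obtain ⟨hZ, hri⟩ := ih p (r ≫ p) rfl hp
    obtain ⟨hn, hbp, y, hy, -, -, hd, hbl⟩ := hb
    obtain ⟨hZi, hZp, hZn⟩ := surf_instances hZ
    haveI := hZi; haveI := hZp; haveI := hZn
    have hys : (Over.mk (r ≫ p)).hom y = closedPoint R := over_closedPoint_of_closed _ hy
    obtain ⟨F, hF⟩ := exists_excComp' hZ y hy hys (by rw [show (1 + 1 : ℕ) = 2 from rfl]; exact_mod_cast hd) b hbl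
    have hY := CanonBlowLib.isArithSurface (Over.mk (r ≫ p)) hZ y hy hys b hbl F hF
    let bo : Over.mk (b ≫ r ≫ p) ⟶ Over.mk (r ≫ p) := Over.homMk b rfl
    let ro : Over.mk (r ≫ p) ⟶ Over.mk p := Over.homMk r rfl
    haveI : IsIso (bo.left ∣_ (⟨{y}ᶜ, hy.isOpen_compl⟩ : (Over.mk (r ≫ p)).left.Opens)) :=
      CanonBlowLib.iso_off (Over.mk (r ≫ p)) b y hy hbl
    haveI := isIso_genericFibre_map bo (⟨{y}ᶜ, hy.isOpen_compl⟩ : (Over.mk (r ≫ p)).left.Opens) fun q hq h =>
      VertIntLib.eta_ne_closedPoint (hq.symm.trans ((congrArg (Over.mk (r ≫ p)).hom (Set.mem_singleton_iff.1 h)).trans hys))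
    haveI : IsIso ((Neron.genericFibre R).map ro) := hri
    refine ⟨hY, ?_⟩
    rw [show (Over.homMk (b ≫ r) (Category.assoc b r p) : Over.mk (b ≫ r ≫ p) ⟶ Over.mk p) = bo ≫ ro from
      Over.OverMorphism.ext rfl, Functor.map_comp]
    infer_instance

end MinModLib
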