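import Groth.Agent.MinModLib.Dominate
import Groth.Agent.MinModLib.Seq
import Groth.Agent.BlanchardLib.Birat
import Groth.Agent.BlanchardLib.Desc

/-!
# Any contraction of an exceptional curve is the contraction
-/

set_option autoImplicit false
set_option linter.style.haveILetI false
set_option linter.unusedSectionVars false
set_option maxHeartbeats 2000000
set_option backward.isDefEq.respectTransparency false
set_option backward.isDefEq.respectTransparency.types false
universe u

open CategoryTheory CategoryTheory.Limits AlgebraicGeometry TopologicalSpace Topology IsLocalRing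

noncomputable section

namespace MinModLib

open PtBlowFactLib

variable {R : Type u} [CommRing R] [IsDomain R] [IsDiscreteValuationRing R]

/-- Fibre-constant morphisms descend along a morphism bijective on functions. -/
theorem desc_of_fibre {A B Z : Scheme.{u}} (b : A ⟶ B) [UniversallyClosed b] (h : A ⟶ Z)
    (hb : ∀ U : B.Opens, Function.Bijective (b.app U).hom)
    (hc : ∀ x x', b x = b x' → h x = h x') : ∃! k : B ⟶ Z, b ≫ k = h := by
  haveI := BlanchardLib.surjective_of_bijective b hb
  refine BlanchardLib.existsUnique_desc b h hb fun t => ?_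
  obtain ⟨x₀, rfl⟩ := b.surjective t
  exact ⟨h x₀, fun x hx => hc x x₀ hx⟩

theorem inj_off {A B : Scheme.{u}} (b : A ⟶ B) {y : B} (hy : IsClosed ({y} : Set B))
    [IsIso (b ∣_ (⟨{y}ᶜ, hy.isOpen_compl⟩ : B.Opens))] {p q : A} (hp : b p ≠ y) (hq : b q ≠ y) (h : b p = b q) :
    p = q := by
  have h' := (b ∣_ (⟨{y}ᶜ, hy.isOpen_compl⟩ : B.Opens)).homeomorph.injective
    (a₁ := ⟨p, hp⟩) (a₂ := ⟨q, hq⟩) (Subtype.ext (by
      rw [Scheme.Hom.homeomorph_apply, Scheme.Hom.homeomorph_apply, morphismRestrict_base_coe,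
        morphismRestrict_base_coe]
      exact h))
  exact congrArg Subtype.val h'

/-- A contraction of an exceptional curve of an arithmetic surface has an arithmetic surface as target. -/
theorem isArithSurface_contraction {X X' : Scheme.{u}} (b : X ⟶ X') (p' : X' ⟶ Spec (CommRingCat.of R))
    (hX : ArSurf.IsArithSurface R (Over.mk (b ≫ p'))) (E : ArSurf.VertComp R (Over.mk (b ≫ p')))
    (hE : Models.IsExcCurve E.ι) (hb : Models.IsContractionOf E.ι b) :
    ∃ (y : X') (hy : IsClosed ({y} : Set X')), ArSurf.IsArithSurface R (Over.mk p') ∧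
      p' y = closedPoint R ∧ b ⁻¹' {y} = Set.range (E.ι.base : E.curve.left → X) ∧
      BlowUp.IsBlowUp b (Scheme.IdealSheafData.vanishingIdeal ⟨{y}, hy⟩) ∧
      IsIso (b ∣_ (⟨{y}ᶜ, hy.isOpen_compl⟩ : X'.Opens)) ∧
      ringKrullDim (X'.presheaf.stalk y) = ((1 + 1 : ℕ) : WithBot ℕ∞) ∧
      IsIso ((Neron.genericFibre R).map (Over.homMk b rfl : Over.mk (b ≫ p') ⟶ Over.mk p')) := by
  obtain ⟨hn, hbp, y, hy, hr, hreg, hd, hbl⟩ := hb
  haveI := hn; haveI := hbp
  obtain ⟨hXi, hXp, hXn⟩ := surf_instances hX
  haveI : IsIntegral X := hXi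
  haveI : IsNoetherian X := hXn
  haveI := hXp
  haveI := hX.2.2.2.1
  haveI hiso : IsIso (b ∣_ (⟨{y}ᶜ, hy.isOpen_compl⟩ : X'.Opens)) :=
    BlowRegLib.isIso_off_centre hbl _ (comap_eq_bot_off hy)
  -- `b` is surjective and `X'` is integral and normal
  have hoff : ∀ v, v ≠ y → v ∈ Set.range b := fun v hv => by
    obtain ⟨x, hx⟩ := (b ∣_ (⟨{y}ᶜ, hy.isOpen_compl⟩ : X'.Opens)).homeomorph.surjective ⟨v, hv⟩
    exact ⟨x.1, (morphismRestrict_base_coe b _ x).symm.trans (congrArg Subtype.val hx)⟩
  have hEy : ∀ c, b (E.ι c) = y := fun c => Set.mem_singleton_iff.1 (hr.le ⟨c, rfl⟩)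
  have hs : Function.Surjective b := fun v => by
    by_cases hv : v = y
    · obtain ⟨c⟩ := (inferInstance : Nonempty E.curve.left)
      exact ⟨E.ι c, (hEy c).trans hv.symm⟩
    · exact hoff v hv
  have hregX' : ∀ v : X', IsRegularLocalRing (X'.presheaf.stalk v) := fun v => by
    by_cases hv : v = y
    · rw [hv]; exact hreg
    obtain ⟨x, rfl⟩ := hoff v hv
    haveI := hX.1 x
    haveI : IsIso (b.stalkMap x) :=
      (MorphismProperty.arrow_mk_iso_iff (MorphismProperty.isomorphisms _)
        (morphismRestrictStalkMap b (⟨{y}ᶜ, hy.isOpen_compl⟩ : X'.Opens) ⟨x, hv⟩)).1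
        (inferInstanceAs (IsIso ((b ∣_ (⟨{y}ᶜ, hy.isOpen_compl⟩ : X'.Opens)).stalkMap ⟨x, hv⟩)))
    haveI : IsRegularLocalRing (X.presheaf.stalk x) := hX.1 x
    exact IsRegularLocalRing.of_ringEquiv (asIso (b.stalkMap x)).commRingCatIsoToRingEquiv.symm
  haveI : IsIntegral X' := by
    haveI : IrreducibleSpace X' := by
      have h := (IrreducibleSpace.isIrreducible_univ X).image b b.continuous.continuousOn
      rw [Set.image_univ, hs.range_eq] at h
      haveI : Nonempty X' := ⟨y⟩
      exact { isPreirreducible_univ := h.isPreirreducible, toNonempty := inferInstance }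
    haveI : IsReduced X' := by
      haveI : ∀ v : X', _root_.IsReduced (X'.presheaf.stalk v) := fun v => by
        haveI := hregX' v
        haveI := CommAlgDim.isDomain_of_isRegularLocalRing (X'.presheaf.stalk v)
        infer_instance
      exact isReduced_of_isReduced_stalk X'
    exact isIntegral_of_irreducibleSpace_of_isReduced _
  have hnor : Pi1.IsNormalScheme X' := fun v =>
    haveI := hregX' v
    ⟨CommAlgDim.isDomain_of_isRegularLocalRing _, Groth.Agent.S9829.result _⟩
  have hηy : y ≠ genericPoint X' := fun h => by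
    have hall : ∀ v : X', v = y := fun v => by
      have := ((genericPoint_spec X').specializes (Set.mem_univ v)).mem_closed hy (Set.mem_singleton_iff.2 h.symm)
      exact this
    haveI : Subsingleton ↥X' := ⟨fun a c => (hall a).trans (hall c).symm⟩
    have h2 : ringKrullDim (X'.presheaf.stalk y) ≤ 0 :=
      (DimIneqLib.stalk_dim_le_dim y).trans (topologicalKrullDim_zero_of_discreteTopology (↥X'))
    rw [hd] at h2
    exact absurd h2 (by decide)
  have hbij : ∀ U : X'.Opens, Function.Bijective (b.app U).hom :=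
    BlanchardLib.bijective_app_of_birational hnor b ⟨{y}ᶜ, hy.isOpen_compl⟩
      ⟨⟨genericPoint X', fun h => hηy (Set.mem_singleton_iff.1 h).symm⟩⟩ hiso
  -- the fibre over `y`
  haveI := hreg
  have hd2 : ringKrullDim (X'.presheaf.stalk y) = ((1 + 1 : ℕ) : WithBot ℕ∞) := hd.trans rfl
  obtain ⟨φ, hφ, -, -⟩ := BlowRegLib.exc_point y hy 1 hd2 hbl
  haveI := hφ
  have hirr : IsIrreducible (b ⁻¹' {y}) := by
    haveI : IrreducibleSpace ((Scheme.IdealSheafData.vanishingIdeal ⟨{y}, hy⟩).comap b).subscheme := by
      haveI : IsIntegral (CohB1.ProjSpace 1 (X'.residueField y)) := inferInstance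
      exact (asIso φ).inv.homeomorph.irreducibleSpace_iff.1 inferInstance
    have h := (IrreducibleSpace.isIrreducible_univ _).image
      (((Scheme.IdealSheafData.vanishingIdeal ⟨{y}, hy⟩).comap b).subschemeι : _ → X)
      (((Scheme.IdealSheafData.vanishingIdeal ⟨{y}, hy⟩).comap b).subschemeι.continuous.continuousOn)
    rw [Set.image_univ, Scheme.IdealSheafData.range_subschemeι, Scheme.IdealSheafData.support_comap,
      Closeds.coe_preimage, Scheme.IdealSheafData.coe_support_vanishingIdeal] at h
    exact h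
  have hpre : b ⁻¹' {y} = Set.range (E.ι.base : E.curve.left → X) := by
    refine Set.Subset.antisymm ?_ (Set.range_subset_iff.2 hEy)
    obtain ⟨e, he⟩ := QuasiSober.sober hirr (hy.preimage b.continuous)
    have h1 : e ⤳ Models.genPtOf R (Over.mk (b ≫ p')) E := he.specializes (hEy _)
    obtain ⟨c, hc⟩ : ∃ c, c ≠ genericPoint E.curve.left := by
      by_contra! hall
      haveI : Subsingleton ↥E.curve.left := ⟨fun a b => (hall a).trans (hall b).symm⟩
      have h3 := topologicalKrullDim_zero_of_discreteTopology (X := ↥E.curve.left)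
      rw [E.dim_eq] at h3
      exact absurd h3 (by decide)
    by_cases hne : e = Models.genPtOf R (Over.mk (b ≫ p')) E
    · rw [← he.def, hne, ← VertIntLib.range_eq_closure]
    · exfalso
      refine RelMinSmLib.not_four (A := (Over.mk (b ≫ p')).left) hX.2.2.1.le
        ((genericPoint_spec X).specializes trivial) h1
        (((genericPoint_spec E.curve.left).specializes (y := c) trivial).map E.ι.continuous) (fun h => ?_) hne
        fun h => hc (E.ι.isEmbedding.injective h).symm
      have hy' : b (genericPoint X) = y := h ▸ he.mem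
      refine hηy ?_
      rw [← hy']
      refine ((?_ : b (genericPoint X) ⤳ genericPoint X').antisymm ((genericPoint_spec X').specializes trivial)).eq
      obtain ⟨x, hx⟩ := hs (genericPoint X')
      rw [← hx]; exact ((genericPoint_spec X).specializes trivial).map b.continuous
  -- compare with the constructed contraction
  obtain ⟨Y, bY, yY, hyY, hY, -, hpreY, hisoY, -⟩ := exists_contraction_exc hX E hE
  haveI := hisoY
  obtain ⟨hYi, hYp, hYn⟩ := surf_instances hY
  haveI := hYi; haveI := hYp; haveI := hYn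
  haveI := isProper_hom bY
  have hηYy : yY ≠ genericPoint Y.left := fun h => by
    haveI := hY.2.2.2.1
    obtain ⟨c⟩ := (inferInstance : Nonempty E.curve.left)
    have h2 : Y.hom yY = closedPoint R := by
      rw [← (show bY.left (E.ι c) = yY from hpreY.ge ⟨c, rfl⟩), ← Scheme.Hom.comp_apply, Over.w bY]
      exact VertIntLib.over_closedPoint E c
    rw [h, VertIntLib.genericPoint_over] at h2
    exact VertIntLib.eta_ne_closedPoint h2
  have hbijY : ∀ U : Y.left.Opens, Function.Bijective (bY.left.app U).hom :=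
    BlanchardLib.bijective_app_of_birational (fun q => ⟨inferInstance, haveI := hY.1 q; Groth.Agent.S9829.result _⟩)
      bY.left ⟨{yY}ᶜ, hyY.isOpen_compl⟩ ⟨⟨genericPoint Y.left, fun h => hηYy (Set.mem_singleton_iff.1 h).symm⟩⟩ hisoY
  obtain ⟨k, hk, hku⟩ := desc_of_fibre b bY.left hbij (fun x x' h => by
    by_cases hx : b x = y
    · exact (hpreY.ge (hpre.le hx)).trans (hpreY.ge (hpre.le (h.symm.trans hx))).symm
    · rw [inj_off b hy hx (fun h' => hx (h.trans h')) h])
  obtain ⟨k', hk', hk'u⟩ := desc_of_fibre bY.left b hbijY (fun x x' h => by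
    by_cases hx : bY.left x = yY
    · exact (hpre.ge (hpreY.le hx)).trans (hpre.ge (hpreY.le (h.symm.trans hx))).symm
    · rw [inj_off bY.left hyY hx (fun h' => hx (h.trans h')) h])
  haveI := BlanchardLib.surjective_of_bijective b hbij
  haveI := BlanchardLib.surjective_of_bijective bY.left hbijY
  let e : X' ≅ Y.left := ⟨k, k',
    H0Lib.hom_ext_of_bijective b hbij _ _ (by rw [← Category.assoc, hk, hk', Category.comp_id]),
    H0Lib.hom_ext_of_bijective bY.left hbijY _ _ (by rw [← Category.assoc, hk', hk, Category.comp_id])⟩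
  have hp' : e.hom ≫ Y.hom = p' := H0Lib.hom_ext_of_bijective b hbij _ _ (by
    rw [← Category.assoc, show b ≫ e.hom = bY.left from hk, Over.w bY]; rfl)
  have hX' : ArSurf.IsArithSurface R (Over.mk p') := hp' ▸ isArithSurface_of_iso hY e
  obtain ⟨-, hX'p, -⟩ := surf_instances hX'
  haveI := hX'p
  have hys : p' y = closedPoint R := over_closedPoint_of_closed (X := Over.mk p') y hy
  let bo : Over.mk (b ≫ p') ⟶ Over.mk p' := Over.homMk b rfl
  haveI : IsIso (bo.left ∣_ (⟨{y}ᶜ, hy.isOpen_compl⟩ : (Over.mk p').left.Opens)) := hiso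
  exact ⟨y, hy, hX', hys, hpre, hbl, hiso, hd2, isIso_genericFibre_map bo
    (⟨{y}ᶜ, hy.isOpen_compl⟩ : (Over.mk p').left.Opens) fun q hq h =>
    VertIntLib.eta_ne_closedPoint (hq.symm.trans ((congrArg p' (Set.mem_singleton_iff.1 h)).trans hys))⟩

end MinModLib
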