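import Groth.Agent.MinModLib.Canon
import Groth.Agent.S13319
import Groth.Agent.S3254
import Groth.Agent.S7909
import Groth.Agent.H0Lib.IsoLocus

/-!
# Contracting exceptional curves
-/

set_option autoImplicit false
set_option linter.style.haveILetI false
set_option linter.unusedSectionVars false
set_option maxHeartbeats 2000000
set_option backward.isDefEq.respectTransparency false
set_option backward.isDefEq.respectTransparency.types false
universe u

open CategoryTheory CategoryTheory.Limits AlgebraicGeometry TopologicalSpace Topology IsLocalRing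
open CubeConsLib

noncomputable section

namespace MinModLib

open PtBlowFactLib

variable {R : Type u} [CommRing R] [IsDomain R] [IsDiscreteValuationRing R]

/-- A curve with negative self-intersection and negative canonical degree can be contracted. -/
theorem exists_contraction {X : Over (Spec (CommRingCat.of R))} (hX : ArSurf.IsArithSurface R X)
    (E : ArSurf.VertComp R X) (L : X.left.Modules) (hL : ClSub.IsInverseOf L (ClSub.idealMod E.ι.ker))
    (ω : X.left.Modules) (hω : Canon.IsCanonical X.hom ω) (h1 : ArSurf.inter R X ω E < 0)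
    (h2 : ArSurf.inter R X L E < 0) :
    ∃ (Y : Over (Spec (CommRingCat.of R))) (b : X ⟶ Y) (y : Y.left) (hy : IsClosed ({y} : Set Y.left)),
      ArSurf.IsArithSurface R Y ∧ Y.hom y = closedPoint R ∧
      b.left ⁻¹' {y} = Set.range (E.ι.base : E.curve.left → X.left) ∧
      IsIso (b.left ∣_ (⟨{y}ᶜ, hy.isOpen_compl⟩ : Y.left.Opens)) ∧ IsIso ((Neron.genericFibre R).map b) := by
  obtain ⟨k', _, _, hfd, e, he, hself⟩ := (Groth.Agent.S13319.result R X hX E L hL ω hω).1.2 ⟨h1, h2⟩
  haveI := hfd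
  obtain ⟨Y, b, y, hy, hY, hr, hpre, hiso⟩ := Groth.Agent.S3254.result R X hX E k' e he L hL hself
  haveI := hiso
  have hpre' : b.left ⁻¹' {y} = Set.range (E.ι.base : E.curve.left → X.left) := by
    refine compl_injective ?_
    rw [← Set.preimage_compl]
    exact hpre
  have hys : Y.hom y = closedPoint R := by
    obtain ⟨c⟩ := (inferInstance : Nonempty E.curve.left)
    rw [← (show b.left (E.ι c) = y from hpre'.ge ⟨c, rfl⟩), ← Scheme.Hom.comp_apply, Over.w b]
    exact VertIntLib.over_closedPoint E c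
  exact ⟨Y, b, y, hy, hY, hys, hpre', hiso, isIso_genericFibre_map b ⟨{y}ᶜ, hy.isOpen_compl⟩ fun q hq h =>
    VertIntLib.eta_ne_closedPoint (hq.symm.trans ((congrArg Y.hom (Set.mem_singleton_iff.1 h)).trans hys))⟩

/-- A curve with negative self-intersection and negative canonical degree is exceptional. -/
theorem isExc_of_neg {X : Over (Spec (CommRingCat.of R))} (hX : ArSurf.IsArithSurface R X)
    (E : ArSurf.VertComp R X) (L : X.left.Modules) (hL : ClSub.IsInverseOf L (ClSub.idealMod E.ι.ker))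
    (ω : X.left.Modules) (hω : Canon.IsCanonical X.hom ω) (h1 : ArSurf.inter R X ω E < 0)
    (h2 : ArSurf.inter R X L E < 0) : Models.IsExcCurve E.ι := by
  obtain ⟨Y, b, y, hy, hY, -, hpre, hiso, -⟩ := exists_contraction hX E L hL ω hω h1 h2
  exact isExcCurve_of_contracted hX hY E b y hy hpre hiso

/-- The inverse of the ideal of a vertical curve. -/
theorem exists_inverse_curve {X : Over (Spec (CommRingCat.of R))} (hX : ArSurf.IsArithSurface R X)
    (E : ArSurf.VertComp R X) : ∃ L : X.left.Modules, ClSub.IsInverseOf L (ClSub.idealMod E.ι.ker) := by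
  obtain ⟨hXi, hXp, hXn⟩ := surf_instances hX
  haveI := hXi; haveI := hXn
  haveI := hX.2.2.2.1
  have hIi : PicF.IsInvertible (ClSub.idealMod E.ι.ker) :=
    IntMultLib.isInvertible_idealMod _ (VertIntLib.isEffCartier_ker hX.1 E (VertIntLib.isFibGen_of_dim hX.2.2.1.le E))
  refine ⟨MiscFlat6.dual (ClSub.idealMod E.ι.ker), cl_eq_one_iff.1 ?_⟩
  rw [cl_tensor, mul_comm, ← cl_tensor]
  exact cl_eq_one_iff.2 (MiscFlat6.nonempty_dualIso hIi)

/-- An exceptional curve can be contracted. -/
theorem exists_contraction_exc {X : Over (Spec (CommRingCat.of R))} (hX : ArSurf.IsArithSurface R X)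
    (E : ArSurf.VertComp R X) (hE : Models.IsExcCurve E.ι) :
    ∃ (Y : Over (Spec (CommRingCat.of R))) (b : X ⟶ Y) (y : Y.left) (hy : IsClosed ({y} : Set Y.left)),
      ArSurf.IsArithSurface R Y ∧ Y.hom y = closedPoint R ∧
      b.left ⁻¹' {y} = Set.range (E.ι.base : E.curve.left → X.left) ∧
      IsIso (b.left ∣_ (⟨{y}ᶜ, hy.isOpen_compl⟩ : Y.left.Opens)) ∧ IsIso ((Neron.genericFibre R).map b) := by
  obtain ⟨hXi, hXp, hXn⟩ := surf_instances hX
  haveI := hXi; haveI := hXp; haveI := hXn
  haveI := hX.2.2.2.1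
  obtain ⟨L, hL⟩ := exists_inverse_curve hX E
  obtain ⟨ω, hω⟩ := RegConLib.exists_isCanonical hX
  obtain ⟨-, h2⟩ := (VertChiLib.isExcCurve_iff E
    (VertIntLib.isEffCartier_ker hX.1 E (VertIntLib.isFibGen_of_dim hX.2.2.1.le E)) hL).1 hE
  have hw := (VertChiLib.dvd_inter E).1
  exact exists_contraction hX E L hL ω hω (inter_canonical_exc hX E hE ω hω) (by omega)

/-- Morphisms contracting `E` factor uniquely through the contraction of `E`. -/
theorem factor_contraction {X Y Z : Over (Spec (CommRingCat.of R))} (hX : ArSurf.IsArithSurface R X)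
    (hY : ArSurf.IsArithSurface R Y) (E : ArSurf.VertComp R X) (b : X ⟶ Y) (y : Y.left)
    (hy : IsClosed ({y} : Set Y.left)) (hpre : b.left ⁻¹' {y} = Set.range (E.ι.base : E.curve.left → X.left))
    (hiso : IsIso (b.left ∣_ (⟨{y}ᶜ, hy.isOpen_compl⟩ : Y.left.Opens)))
    (hZ : Neron.IsProjectiveOver R Z) (h : X ⟶ Z)
    (hh : ∃ z : Z.left, h.left '' Set.range (E.ι.base : E.curve.left → X.left) = {z}) :
    ∃! g : Y ⟶ Z, b ≫ g = h := by
  obtain ⟨hXi, hXp, hXn⟩ := surf_instances hX
  obtain ⟨hYi, hYp, hYn⟩ := surf_instances hY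
  haveI := hXi; haveI := hYi
  obtain ⟨c⟩ := (inferInstance : Nonempty E.curve.left)
  have himg : b.left '' Set.range (E.ι.base : E.curve.left → X.left) = {y} := by
    refine Set.Subset.antisymm ?_ (Set.singleton_subset_iff.2 ⟨E.ι c, ⟨c, rfl⟩, hpre.ge ⟨c, rfl⟩⟩)
    rintro _ ⟨z, hz, rfl⟩
    exact hpre.ge hz
  have hU : (⋃ i : Fin 1, Set.range (((fun _ : Fin 1 => E) i).ι.base : E.curve.left → X.left)) =
      Set.range (E.ι.base : E.curve.left → X.left) := Set.iUnion_const _
  refine Groth.Agent.S7909.existsUnique_factor R X hX.2.2.2.2 (fun _ : Fin 1 => E) Y Z b h hY.2.1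
    (fun q => haveI := hY.1 q; Groth.Agent.S9829.result _) hY.2.2.1 hY.2.2.2.2 hZ (fun _ => ⟨y, ?_⟩) (fun _ => ?_)
    ?_ fun V hV => ?_
  · rw [Scheme.Hom.comp_base, TopCat.coe_comp, Set.range_comp]; exact himg
  · obtain ⟨z, hz⟩ := hh
    exact ⟨z, by rw [Scheme.Hom.comp_base, TopCat.coe_comp, Set.range_comp]; exact hz⟩
  · rw [hU, himg, hpre]
  · rw [hU, himg] at hV
    have hle : V ≤ (⟨{y}ᶜ, hy.isOpen_compl⟩ : Y.left.Opens) := fun v hv (hvy : v ∈ ({y} : Set Y.left)) =>
      (Set.eq_empty_iff_forall_notMem.1 hV v) ⟨hv, hvy⟩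
    exact H0Lib.isIso_restrict_of_le b.left hle hiso

end MinModLib
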