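import Groth.Agent.MinModLib.Contraction

/-!
# A surface without contractible curves is dominated by every birational one
-/

set_option autoImplicit false
set_option linter.style.haveILetI false
set_option linter.unusedSectionVars false
set_option maxHeartbeats 2000000
set_option backward.isDefEq.respectTransparency false
set_option backward.isDefEq.respectTransparency.types false
universe u

open CategoryTheory CategoryTheory.Limits AlgebraicGeometry TopologicalSpace Topology IsLocalRing

noncomputable section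

namespace MinModLib

open PtBlowFactLib

variable {R : Type u} [CommRing R] [IsDomain R] [IsDiscreteValuationRing R]

/-- A contraction is surjective and loses one component. -/
theorem contraction_spec {X Y : Over (Spec (CommRingCat.of R))} (hX : ArSurf.IsArithSurface R X)
    (hY : ArSurf.IsArithSurface R Y) (E : ArSurf.VertComp R X) (b : X ⟶ Y) [IsIso ((Neron.genericFibre R).map b)]
    (y : Y.left) (hy : IsClosed ({y} : Set Y.left))
    (hpre : b.left ⁻¹' {y} = Set.range (E.ι.base : E.curve.left → X.left))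
    (hiso : IsIso (b.left ∣_ (⟨{y}ᶜ, hy.isOpen_compl⟩ : Y.left.Opens))) :
    Function.Surjective b.left ∧
      (Models.fibreComponents R Y).ncard < (Models.fibreComponents R X).ncard := by
  obtain ⟨hXi, hXp, hXn⟩ := surf_instances hX
  obtain ⟨hYi, hYp, hYn⟩ := surf_instances hY
  haveI := hXi; haveI := hXp; haveI := hXn; haveI := hYi; haveI := hYp; haveI := hYn
  haveI := hX.2.2.2.1
  haveI := hY.2.2.2.1
  haveI := isProper_hom b
  obtain ⟨W, -, -, hdom⟩ := exists_birational_open b fun q => haveI := hY.1 q; Groth.Agent.S9829.result _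
  have hs : Function.Surjective b.left := fun w =>
    ((genericPoint_spec Y.left).specializes (Set.mem_univ w)).mem_closed b.left.isClosedMap.isClosed_range ⟨_, hdom⟩
  refine ⟨hs, ?_⟩
  obtain ⟨n, Γ, hΓ⟩ := VertChiLib.exists_list_of_dim_two (X := X) hX.2.2.1
  obtain ⟨n', Δ, hΔ⟩ := VertChiLib.exists_list_of_dim_two (X := Y) hY.2.2.1
  have hfin : (Models.fibreComponents R X).Finite := hΓ.2 ▸ Set.finite_range _
  obtain ⟨i₀, hi₀⟩ := VertIntLib.cover_of_list hΓ (Models.genPtOf R X E) (VertIntLib.genPt_over E)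
  have hEmem : Set.range (E.ι.base : E.curve.left → X.left) ∈ Models.fibreComponents R X := by
    have h : Models.genPtOf R X (Γ i₀) = Models.genPtOf R X E :=
      VertIntLib.isFibGen_of_dim hX.2.2.1.le E _ (VertIntLib.genPt_over (Γ i₀))
        (specializes_iff_mem_closure.2 (VertIntLib.range_eq_closure (Γ i₀) ▸ hi₀))
    rw [← hΓ.2]
    exact ⟨i₀, show Set.range _ = _ by rw [VertIntLib.range_eq_closure, h, ← VertIntLib.range_eq_closure]⟩
  have hsub : Models.fibreComponents R Y ⊆ (b.left '' ·) '' (Models.fibreComponents R X \ {Set.range E.ι.base}) := by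
    rw [← hΔ.2]
    rintro _ ⟨j, rfl⟩
    obtain ⟨x, hx⟩ := hs (Models.genPtOf R Y (Δ j))
    have hxo : X.hom x = closedPoint R := by
      rw [← Over.w b, Scheme.Hom.comp_apply, hx]; exact VertIntLib.genPt_over (Δ j)
    obtain ⟨i, hi⟩ := VertIntLib.cover_of_list hΓ x hxo
    have hg : b.left (Models.genPtOf R X (Γ i)) = Models.genPtOf R Y (Δ j) := by
      rw [VertIntLib.range_eq_closure] at hi
      exact VertIntLib.isFibGen_of_dim hY.2.2.1.le (Δ j) _ (by
        rw [← Scheme.Hom.comp_apply, Over.w b]; exact VertIntLib.genPt_over (Γ i))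
        (hx ▸ (specializes_iff_mem_closure.2 hi).map b.left.continuous)
    refine ⟨Set.range (Γ i).ι.base, ⟨hΓ.2 ▸ ⟨i, rfl⟩, fun h => ?_⟩, ?_⟩
    · have h1 : b.left (Models.genPtOf R X (Γ i)) = y :=
        hpre.ge ((Set.mem_singleton_iff.1 h).le ((VertIntLib.range_eq_closure (Γ i)).ge (subset_closure rfl)))
      refine genericPoint_not_closed (Δ j) ?_
      have h2 : ({genericPoint (Δ j).curve.left} : Set (Δ j).curve.left) = (Δ j).ι ⁻¹' {y} := by
        ext c
        refine ⟨?_, fun hc => (Δ j).ι.isEmbedding.injective ((Set.mem_singleton_iff.1 hc).trans (h1.symm.trans hg))⟩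
        rintro rfl
        exact hg.symm.trans h1
      rw [h2]
      exact hy.preimage (Δ j).ι.continuous
    · show b.left '' Set.range (Γ i).ι.base = Set.range (Δ j).ι.base
      rw [range_image, hg, ← VertIntLib.range_eq_closure]
  calc (Models.fibreComponents R Y).ncard
      ≤ ((b.left '' ·) '' (Models.fibreComponents R X \ {Set.range E.ι.base})).ncard :=
        Set.ncard_le_ncard hsub ((hfin.subset Set.sdiff_subset).image _)
    _ ≤ (Models.fibreComponents R X \ {Set.range E.ι.base}).ncard := Set.ncard_image_le (hfin.subset Set.sdiff_subset)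
    _ < (Models.fibreComponents R X).ncard := Set.ncard_diff_singleton_lt_of_mem hEmem hfin

/-- If `X₁` has no curve with negative canonical degree contracted by `q₁`, every dominating pair descends. -/
theorem dominate {X₁ X₂ : Over (Spec (CommRingCat.of R))} (h₁ : ArSurf.IsArithSurface R X₁)
    (h₂ : ArSurf.IsArithSurface R X₂) {T : Type*} (q₁ : X₁.left → T) (q₂ : X₂.left → T)
    (ω : X₁.left.Modules) (hω : Canon.IsCanonical X₁.hom ω)
    (hmin : ∀ D : ArSurf.VertComp R X₁, (q₁ '' Set.range (D.ι.base : D.curve.left → X₁.left)).Subsingleton →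
      ¬ ArSurf.inter R X₁ ω D < 0) :
    ∀ (m : ℕ) {W : Over (Spec (CommRingCat.of R))} (_hW : ArSurf.IsArithSurface R W) (f₁ : W ⟶ X₁) (f₂ : W ⟶ X₂)
      [IsIso ((Neron.genericFibre R).map f₁)] [IsIso ((Neron.genericFibre R).map f₂)],
      (∀ x : W.left, q₁ (f₁.left x) = q₂ (f₂.left x)) → (Models.fibreComponents R W).ncard ≤ m →
      ∃ k : X₂ ⟶ X₁, f₂ ≫ k = f₁ := by
  intro m
  induction m using Nat.strong_induction_on with
  | _ m ih =>
  intro W hW f₁ f₂ _ _ hq hm
  obtain ⟨hWi, hWp, hWn⟩ := surf_instances hW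
  haveI := hWi; haveI := hWp; haveI := hWn
  by_cases hf : IsIso f₂.left
  · haveI : IsIso ((Over.forget _).map f₂) := hf
    haveI := isIso_of_reflects_iso f₂ (Over.forget _)
    exact ⟨inv f₂ ≫ f₁, IsIso.hom_inv_id_assoc f₂ f₁⟩
  obtain ⟨E, hE, w, hw⟩ := exists_contracted_exc _ hW h₂ f₂ le_rfl hf
  obtain ⟨z, hz⟩ : ∃ z, f₁.left '' Set.range (E.ι.base : E.curve.left → W.left) = {z} := by
    by_cases hs : (f₁.left '' Set.range (E.ι.base : E.curve.left → W.left)).Subsingleton
    · obtain ⟨z, hz⟩ := (Set.range_nonempty E.ι.base).image f₁.left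
      exact ⟨z, hs.eq_singleton_of_mem hz⟩
    obtain ⟨D, hD, hneg⟩ := exists_neg_of_exc hW h₁ f₁ E hE hs ω hω
    refine absurd hneg (hmin D (Set.Subsingleton.anti (Set.subsingleton_singleton (a := q₂ w)) ?_))
    rw [hD]
    rintro _ ⟨_, ⟨x, hx, rfl⟩, rfl⟩
    rw [Set.mem_singleton_iff, hq x, Set.mem_singleton_iff.1 (hw.le ⟨x, hx, rfl⟩)]
  obtain ⟨Y, b, y, hy, hY, -, hpre, hiso, hbi⟩ := exists_contraction_exc hW E hE
  haveI := hbi
  obtain ⟨g₁, hg₁, -⟩ := factor_contraction hW hY E b y hy hpre hiso h₁.2.2.2.2 f₁ ⟨z, hz⟩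
  obtain ⟨g₂, hg₂, -⟩ := factor_contraction hW hY E b y hy hpre hiso h₂.2.2.2.2 f₂ ⟨w, hw⟩
  haveI : IsIso ((Neron.genericFibre R).map g₁) := by
    haveI : IsIso ((Neron.genericFibre R).map b ≫ (Neron.genericFibre R).map g₁) := by
      rw [← Functor.map_comp, hg₁]; infer_instance
    exact IsIso.of_isIso_comp_left ((Neron.genericFibre R).map b) _
  haveI : IsIso ((Neron.genericFibre R).map g₂) := by
    haveI : IsIso ((Neron.genericFibre R).map b ≫ (Neron.genericFibre R).map g₂) := by
      rw [← Functor.map_comp, hg₂]; infer_instance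
    exact IsIso.of_isIso_comp_left ((Neron.genericFibre R).map b) _
  obtain ⟨hs, hlt⟩ := contraction_spec hW hY E b y hy hpre hiso
  obtain ⟨k, hk⟩ := ih _ (lt_of_lt_of_le hlt hm) hY g₁ g₂ (fun v => by
    obtain ⟨x, rfl⟩ := hs v
    rw [← Scheme.Hom.comp_apply, ← Over.comp_left, hg₁, hq x, ← hg₂, Over.comp_left, Scheme.Hom.comp_apply]) le_rfl
  exact ⟨k, by rw [← hg₂, Category.assoc, hk, hg₁]⟩

end MinModLib
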