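import Groth.Agent.MinModLib.MinDesing
import Groth.Agent.MinModLib.Seq

/-!
# Existence of minimal desingularizations, and dominating surfaces
-/

set_option autoImplicit false
set_option linter.style.haveILetI false
set_option linter.unusedSectionVars false
set_option maxHeartbeats 2000000
set_option backward.isDefEq.respectTransparency false
set_option backward.isDefEq.respectTransparency.types false
universe u

open CategoryTheory CategoryTheory.Limits AlgebraicGeometry TopologicalSpace Topology IsLocalRing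

noncomputable section

namespace MinModLib

open PtBlowFactLib

variable {R : Type u} [CommRing R] [IsDomain R] [IsDiscreteValuationRing R]

/-- Contract curves until no exceptional curve is contracted. -/
theorem exists_no_exc {Y : Over (Spec (CommRingCat.of R))} [IsIntegral Y.left] (hY : Neron.IsProjectiveOver R Y) :
    ∀ (m : ℕ) (X : Over (Spec (CommRingCat.of R))) (_hX : ArSurf.IsArithSurface R X) (g : X ⟶ Y) (U : Y.left.Opens)
      (_hU : (U : Set Y.left).Nonempty) [IsIso (g.left ∣_ U)], (Models.fibreComponents R X).ncard ≤ m →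
      ∃ (Z : Over (Spec (CommRingCat.of R))) (h : Z ⟶ Y) (V : Y.left.Opens), ArSurf.IsArithSurface R Z ∧
        (V : Set Y.left).Nonempty ∧ IsIso (h.left ∣_ V) ∧ ∀ D : ArSurf.VertComp R Z, Models.IsExcCurve D.ι →
          ¬ ∃ y : Y.left, Set.range ((D.ι ≫ h.left).base : D.curve.left → Y.left) = {y} := by
  intro m
  induction m using Nat.strong_induction_on with
  | _ m ih =>
  intro X hX g U hU hiso hm
  obtain ⟨hXi, hXp, hXn⟩ := surf_instances hX
  haveI := hXi; haveI := hXp; haveI := hXn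
  haveI := hX.2.2.2.1
  haveI := isProper_of_projective hY
  haveI := isProper_hom g
  by_cases hex : ∀ D : ArSurf.VertComp R X, Models.IsExcCurve D.ι →
      ¬ ∃ y : Y.left, Set.range ((D.ι ≫ g.left).base : D.curve.left → Y.left) = {y}
  · exact ⟨X, g, U, hX, hU, hiso, hex⟩
  push_neg at hex
  obtain ⟨E, hE, y₀, hy₀⟩ := hex
  have himg : g.left '' Set.range (E.ι.base : E.curve.left → X.left) = {y₀} := by
    rw [← hy₀, Scheme.Hom.comp_base, TopCat.coe_comp, Set.range_comp]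
  obtain ⟨X₂, b, y, hy, hX₂, hys, hpre, hbiso, hbi⟩ := exists_contraction_exc hX E hE
  haveI := hbi
  obtain ⟨g₂, hg₂, -⟩ := factor_contraction hX hX₂ E b y hy hpre hbiso hY g ⟨y₀, himg⟩
  have hy₀c : IsClosed ({y₀} : Set Y.left) := himg ▸ g.left.isClosedMap _ E.ι.isClosedEmbedding.isClosed_range
  have hy₀s : Y.hom y₀ = closedPoint R := over_closedPoint_of_closed y₀ hy₀c
  let U' : Y.left.Opens := U ⊓ ⟨{y₀}ᶜ, hy₀c.isOpen_compl⟩
  have hξ := map_genericPoint g.left U hU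
  have hU' : (U' : Set Y.left).Nonempty := by
    refine ⟨genericPoint Y.left, ((genericPoint_spec Y.left).mem_open_set_iff U.2).2 (by simpa using hU), fun h => ?_⟩
    rw [Set.mem_singleton_iff] at h
    rw [← h, ← hξ, ← Scheme.Hom.comp_apply, Over.w g, VertIntLib.genericPoint_over] at hy₀s
    exact VertIntLib.eta_ne_closedPoint hy₀s
  haveI hbU : IsIso (b.left ∣_ (g₂.left ⁻¹ᵁ U')) := by
    refine H0Lib.isIso_restrict_of_le b.left (V := ⟨{y}ᶜ, hy.isOpen_compl⟩) (fun v hv (hvy : v ∈ ({y} : Set X₂.left)) => hv.2 ?_) hbiso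
    obtain ⟨c⟩ := (inferInstance : Nonempty E.curve.left)
    rw [Set.mem_singleton_iff] at hvy ⊢
    rw [hvy, ← (show b.left (E.ι c) = y from hpre.ge ⟨c, rfl⟩), ← Scheme.Hom.comp_apply, ← Over.comp_left, hg₂]
    exact Set.mem_singleton_iff.1 (himg.le ⟨_, ⟨c, rfl⟩, rfl⟩)
  haveI : IsIso (g₂.left ∣_ U') := by
    haveI : IsIso ((b.left ≫ g₂.left) ∣_ U') := by
      rw [← Over.comp_left, hg₂]
      exact H0Lib.isIso_restrict_of_le g.left inf_le_left hiso
    rw [morphismRestrict_comp] at this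
    exact IsIso.of_isIso_comp_left (b.left ∣_ (g₂.left ⁻¹ᵁ U')) _
  obtain ⟨-, hlt⟩ := contraction_spec hX hX₂ E b y hy hpre hbiso
  exact ih _ (lt_of_lt_of_le hlt hm) X₂ hX₂ g₂ U' hU' le_rfl

/-- The data of S7941: rational maps extend after blowing up closed points. -/
def Extends (R : Type u) [CommRing R] [IsDomain R] [IsDiscreteValuationRing R] : Prop :=
  ∀ (X : Over (Spec (CommRingCat.of R))), ArSurf.IsArithSurface R X →
    ∀ (Z : Over (Spec (CommRingCat.of R))), Neron.IsProjectiveOver R Z →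
    ∀ (U : X.left.Opens), (U : Set X.left).Nonempty → ∀ (φ : (U : Scheme.{u}) ⟶ Z.left), φ ≫ Z.hom = U.ι ≫ X.hom →
    ∃ (X' : Scheme.{u}) (f : X' ⟶ X.left) (g : X' ⟶ Z.left),
      Models.IsContractionSeq f ∧ g ≫ Z.hom = f ≫ X.hom ∧ (f ⁻¹ᵁ U).ι ≫ g = (f ∣_ U) ≫ φ

/-- Two birational models over `Y` are dominated by a third. -/
theorem exists_dominating (hext : Extends R) {X X' Y : Over (Spec (CommRingCat.of R))}
    (hX : ArSurf.IsArithSurface R X) (hX' : ArSurf.IsArithSurface R X') [IsIntegral Y.left] [IsProper Y.hom]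
    (hnor : ∀ y : Y.left, IsIntegrallyClosed (Y.left.presheaf.stalk y))
    (g : X ⟶ Y) (U : Y.left.Opens) (hU : (U : Set Y.left).Nonempty) [IsIso (g.left ∣_ U)]
    (g' : X' ⟶ Y) (U' : Y.left.Opens) (hU' : (U' : Set Y.left).Nonempty) [IsIso (g'.left ∣_ U')] :
    ∃ (W : Over (Spec (CommRingCat.of R))) (f₁ : W ⟶ X) (f₂ : W ⟶ X'), ArSurf.IsArithSurface R W ∧
      IsIso ((Neron.genericFibre R).map f₁) ∧ IsIso ((Neron.genericFibre R).map f₂) ∧ f₁ ≫ g = f₂ ≫ g' := by
  let V := g'.left ⁻¹ᵁ U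
  have hgU : genericPoint Y.left ∈ U := ((genericPoint_spec Y.left).mem_open_set_iff U.2).2 (by simpa using hU)
  obtain ⟨hX'i, hX'p, hX'n⟩ := surf_instances hX'
  haveI := hX'i
  have hVne : (V : Set X'.left).Nonempty := ⟨genericPoint X'.left, show g'.left (genericPoint X'.left) ∈ U by
    rw [map_genericPoint g'.left U' hU']; exact hgU⟩
  let φ : (V : Scheme.{u}) ⟶ X.left := (g'.left ∣_ U) ≫ inv (g.left ∣_ U) ≫ (g.left ⁻¹ᵁ U).ι
  have hφg : φ ≫ g.left = V.ι ≫ g'.left := by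
    simp only [φ, Category.assoc]
    rw [← morphismRestrict_ι, IsIso.inv_hom_id_assoc, morphismRestrict_ι]
  have hφ : φ ≫ X.hom = V.ι ≫ X'.hom := by
    rw [← Over.w g, ← Category.assoc, hφg, Category.assoc, Over.w g']
  obtain ⟨W₀, f, h, hf, hh, hagree⟩ := hext X' hX' X hX.2.2.2.2 V hVne φ hφ
  obtain ⟨hW, hfi⟩ := isArithSurface_of_seq f hf X'.hom (f ≫ X'.hom) rfl hX'
  let f₂ : Over.mk (f ≫ X'.hom) ⟶ X' := Over.homMk f rfl
  let f₁ : Over.mk (f ≫ X'.hom) ⟶ X := Over.homMk h hh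
  haveI : IsIso ((Neron.genericFibre R).map f₂) := hfi
  obtain ⟨hWi, hWp, hWn⟩ := surf_instances hW
  haveI : IsIntegral W₀ := hWi
  have hd : DenseRange f₂.left.base := denseRange_left hW hX' f₂
  haveI : Nonempty (f ⁻¹ᵁ V : W₀.Opens) := by
    obtain ⟨v, hv, x, rfl⟩ := dense_iff_inter_open.1 hd _ V.2 hVne
    exact ⟨⟨x, hv⟩⟩
  haveI : IsDominant (f ⁻¹ᵁ V).ι := ⟨by
    rw [DenseRange, Scheme.Opens.range_ι]
    exact (f ⁻¹ᵁ V).2.dense ⟨_, (‹Nonempty (f ⁻¹ᵁ V : W₀.Opens)›.some).2⟩⟩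
  have hc : f₁ ≫ g = f₂ ≫ g' := Over.OverMorphism.ext (ext_of_isDominant_of_isSeparated Y.hom
    ((Over.w (f₁ ≫ g)).trans (Over.w (f₂ ≫ g')).symm) (f ⁻¹ᵁ V).ι (by
      show (f ⁻¹ᵁ V).ι ≫ h ≫ g.left = (f ⁻¹ᵁ V).ι ≫ f ≫ g'.left
      rw [← Category.assoc, hagree, Category.assoc, hφg, ← Category.assoc, morphismRestrict_ι, Category.assoc]))
  haveI := isIso_generic_of_birational hX' hnor g' U' hU'
  haveI := isIso_generic_of_birational hX hnor g U hU
  refine ⟨Over.mk (f ≫ X'.hom), f₁, f₂, hW, ?_, hfi, hc⟩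
  haveI : IsIso ((Neron.genericFibre R).map f₁ ≫ (Neron.genericFibre R).map g) := by
    rw [← Functor.map_comp, hc, Functor.map_comp]; infer_instance
  exact IsIso.of_isIso_comp_right _ ((Neron.genericFibre R).map g)

/-- A desingularization contracting no exceptional curve is minimal. -/
theorem minimal (hext : Extends R) {X X' Y : Over (Spec (CommRingCat.of R))}
    (hX : ArSurf.IsArithSurface R X) (hX' : ArSurf.IsArithSurface R X') [IsIntegral Y.left] [IsProper Y.hom]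
    (hnor : ∀ y : Y.left, IsIntegrallyClosed (Y.left.presheaf.stalk y))
    (g : X ⟶ Y) (U : Y.left.Opens) (hU : (U : Set Y.left).Nonempty) [IsIso (g.left ∣_ U)]
    (hexc : ∀ D : ArSurf.VertComp R X, Models.IsExcCurve D.ι →
      ¬ ∃ y : Y.left, Set.range ((D.ι ≫ g.left).base : D.curve.left → Y.left) = {y})
    (g' : X' ⟶ Y) (U' : Y.left.Opens) (hU' : (U' : Set Y.left).Nonempty) [IsIso (g'.left ∣_ U')] :
    ∃! k : X' ⟶ X, k ≫ g = g' := by
  obtain ⟨W, f₁, f₂, hW, h1, h2, hc⟩ := exists_dominating hext hX hX' hnor g U hU g' U' hU'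
  haveI := h1; haveI := h2
  obtain ⟨k, hk⟩ := factor_of_dominating hX hX' hnor g U hU hexc g' hW f₁ f₂ hc
  obtain ⟨hXi, hXp, hXn⟩ := surf_instances hX
  obtain ⟨hX'i, hX'p, hX'n⟩ := surf_instances hX'
  haveI := hXp; haveI := hX'i
  exact ⟨k, hk, fun k' hk' => eq_of_comp_eq g U hU g' U' hU' hk' hk⟩

end MinModLib
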