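import Groth.Agent.MinModLib.Dominate
import Groth.Agent.S1655
import Groth.Agent.FComplLib.Near

/-!
# Minimal desingularizations
-/

set_option autoImplicit false
set_option linter.style.haveILetI false
set_option linter.unusedSectionVars false
set_option maxHeartbeats 2000000
set_option backward.isDefEq.respectTransparency false
set_option backward.isDefEq.respectTransparency.types false
universe u

open CategoryTheory CategoryTheory.Limits AlgebraicGeometry TopologicalSpace Topology IsLocalRing

noncomputable section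

namespace MinModLib

open PtBlowFactLib

variable {R : Type u} [CommRing R] [IsDomain R] [IsDiscreteValuationRing R]

theorem isProper_of_projective {Y : Over (Spec (CommRingCat.of R))} (h : Neron.IsProjectiveOver R Y) :
    IsProper Y.hom := by
  obtain ⟨n, i, hi, w⟩ := h
  haveI := hi
  haveI := ChowLib.isProper_toBase n (Spec (CommRingCat.of R))
  rw [← w]; infer_instance

/-- A birational morphism from an arithmetic surface to a normal proper surface is iso on generic fibres. -/
theorem isIso_generic_of_birational {X Y : Over (Spec (CommRingCat.of R))} (hX : ArSurf.IsArithSurface R X)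
    [IsIntegral Y.left] [IsProper Y.hom] (hnor : ∀ y : Y.left, IsIntegrallyClosed (Y.left.presheaf.stalk y))
    (g : X ⟶ Y) (U : Y.left.Opens) (hU : (U : Set Y.left).Nonempty) [IsIso (g.left ∣_ U)] :
    IsIso ((Neron.genericFibre R).map g) := by
  classical
  obtain ⟨hXi, hXp, hXn⟩ := surf_instances hX
  haveI := hXi; haveI := hXp; haveI := hXn
  haveI := hX.2.2.2.1
  haveI := isProper_hom g
  haveI : IsLocallyNoetherian Y.left := LocallyOfFiniteType.isLocallyNoetherian Y.hom
  haveI : CompactSpace Y.left := QuasiCompact.compactSpace_of_compactSpace Y.hom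
  haveI : IsNoetherian Y.left := ⟨⟩
  have hdom := map_genericPoint g.left U hU
  have hgU : genericPoint Y.left ∈ U := ((genericPoint_spec Y.left).mem_open_set_iff U.2).2 (by simpa using hU)
  have hw : ∀ x, Y.hom (g.left x) = X.hom x := fun x => by rw [← Scheme.Hom.comp_apply, Over.w g]
  have hloc : ∀ y : Y.left, Y.hom y = RelMinSmLib.eta (R := R) → ∃ V : Y.left.Opens, y ∈ V ∧ IsIso (g.left ∣_ V) := by
    intro y hy
    obtain ⟨x, rfl⟩ : y ∈ Set.range g.left :=
      ((genericPoint_spec Y.left).specializes (Set.mem_univ y)).mem_closed g.left.isClosedMap.isClosed_range ⟨_, hdom⟩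
    by_cases hyU : g.left x ∈ U
    · exact ⟨U, hyU, inferInstance⟩
    refine Groth.Agent.S1655.result g.left U hU inferInstance (g.left x) (hnor _) x rfl ?_
    refine Scheme.Hom.quasiFiniteAt_iff_isOpen_singleton_asFiber.2 ?_
    by_contra hopen
    haveI : IsNoetherian (g.left.fiber (g.left x)) := by
      haveI : LocallyOfFiniteType (g.left.fiberToSpecResidueField (g.left x)) :=
        MorphismProperty.pullback_snd _ _ (inferInstance : LocallyOfFiniteType g.left)
      haveI := LocallyOfFiniteType.isLocallyNoetherian (g.left.fiberToSpecResidueField (g.left x))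
      exact ⟨⟩
    obtain ⟨a, b, -, hab, hne⟩ := RelMinSmLib.exists_specializes_of_not_isOpen hopen
    set u := g.left.fiberι (g.left x) a
    set v := g.left.fiberι (g.left x) b
    have hov : ∀ c, g.left (g.left.fiberι (g.left x) c) = g.left x := fun c =>
      (g.left.range_fiberι _).le ⟨c, rfl⟩
    have hξu : genericPoint X.left ≠ u := fun h => hyU (by rw [← hov a]; show g.left u ∈ U; rw [← h, hdom]; exact hgU)
    obtain ⟨w, hwv, hwo⟩ : ∃ w, v ⤳ w ∧ X.hom w = closedPoint R := by
      obtain ⟨w, hw1, hw2⟩ := X.hom.isClosedMap.specializingMap (IsLocalRing.specializes_closedPoint (X.hom v))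
      exact ⟨w, hw1, hw2⟩
    refine RelMinSmLib.not_four hX.2.2.1.le ((genericPoint_spec X.left).specializes trivial)
      (hab.map (g.left.fiberι _).continuous) hwv hξu (fun h => hne ((g.left.fiberι _).isEmbedding.injective h))
      fun h => ?_
    refine VertIntLib.eta_ne_closedPoint (R := R) ?_
    rw [← hwo, ← h, ← hw v, hov b, hy]
  choose V hV hVi using hloc
  let W : Y.left.Opens := ⨆ (q : {y : Y.left // Y.hom y = RelMinSmLib.eta (R := R)}), V q.1 q.2
  haveI : IsIso (g.left ∣_ W) := FComplLib.restrict_iSup g.left (MorphismProperty.isomorphisms Scheme) _ fun q => hVi q.1 q.2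
  exact isIso_genericFibre_map g W fun y hy => Opens.mem_iSup.2 ⟨⟨y, hy⟩, hV y hy⟩

/-- A curve contracted to a normal surface has negative self-intersection. -/
theorem selfInter_neg {X Y : Over (Spec (CommRingCat.of R))} (hX : ArSurf.IsArithSurface R X)
    [IsIntegral Y.left] [IsProper Y.hom] (hnor : ∀ y : Y.left, IsIntegrallyClosed (Y.left.presheaf.stalk y))
    (g : X ⟶ Y) (U : Y.left.Opens) (hU : (U : Set Y.left).Nonempty) [IsIso (g.left ∣_ U)]
    (D : ArSurf.VertComp R X) (hD : (g.left '' Set.range (D.ι.base : D.curve.left → X.left)).Subsingleton)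
    (L : X.left.Modules) (hL : ClSub.IsInverseOf L (ClSub.idealMod D.ι.ker)) :
    ArSurf.inter R X L D < 0 ∧ ∃ y : Y.left, Set.range ((D.ι ≫ g.left).base : D.curve.left → Y.left) = {y} := by
  obtain ⟨z, hz⟩ := (Set.range_nonempty D.ι.base).image g.left
  have hr : Set.range ((D.ι ≫ g.left).base : D.curve.left → Y.left) = {z} := by
    rw [Scheme.Hom.comp_base, TopCat.coe_comp, Set.range_comp]; exact hD.eq_singleton_of_mem hz
  refine ⟨?_, z, hr⟩
  have h := contracted_negDef hX hnor g U hU z (fun _ : Fin 1 => D) (Function.injective_of_subsingleton _)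
    (fun _ => hr) (fun _ => L) (fun _ => hL) (fun _ => 1) (fun h => one_ne_zero (congrFun h 0))
  simpa using h

/-- Minimality: no curve contracted by `g` has negative canonical degree. -/
theorem canonical_nonneg_of_no_exc {X Y : Over (Spec (CommRingCat.of R))} (hX : ArSurf.IsArithSurface R X)
    [IsIntegral Y.left] [IsProper Y.hom] (hnor : ∀ y : Y.left, IsIntegrallyClosed (Y.left.presheaf.stalk y))
    (g : X ⟶ Y) (U : Y.left.Opens) (hU : (U : Set Y.left).Nonempty) [IsIso (g.left ∣_ U)]
    (hexc : ∀ D : ArSurf.VertComp R X, Models.IsExcCurve D.ι →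
      ¬ ∃ y : Y.left, Set.range ((D.ι ≫ g.left).base : D.curve.left → Y.left) = {y})
    (ω : X.left.Modules) (hω : Canon.IsCanonical X.hom ω) (D : ArSurf.VertComp R X)
    (hD : (g.left '' Set.range (D.ι.base : D.curve.left → X.left)).Subsingleton) :
    ¬ ArSurf.inter R X ω D < 0 := fun h => by
  obtain ⟨L, hL⟩ := exists_inverse_curve hX D
  obtain ⟨hneg, hpt⟩ := selfInter_neg hX hnor g U hU D hD L hL
  exact hexc D (isExc_of_neg hX D L hL ω hω h hneg) hpt

/-- Uniqueness of morphisms over a birational morphism. -/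
theorem eq_of_comp_eq {X Y X' : Over (Spec (CommRingCat.of R))} [IsIntegral Y.left] [IsIntegral X'.left]
    [IsSeparated X.hom] (g : X ⟶ Y) (U : Y.left.Opens) (hU : (U : Set Y.left).Nonempty) [IsIso (g.left ∣_ U)]
    (g' : X' ⟶ Y) (U' : Y.left.Opens) (hU' : (U' : Set Y.left).Nonempty) [IsIso (g'.left ∣_ U')]
    {a b : X' ⟶ X} (ha : a ≫ g = g') (hb : b ≫ g = g') : a = b := by
  refine Over.OverMorphism.ext ?_
  let V := g'.left ⁻¹ᵁ U
  have hgU : genericPoint Y.left ∈ U := ((genericPoint_spec Y.left).mem_open_set_iff U.2).2 (by simpa using hU)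
  haveI : Nonempty V := ⟨⟨genericPoint X'.left, show g'.left (genericPoint X'.left) ∈ U by
    rw [map_genericPoint g'.left U' hU']; exact hgU⟩⟩
  haveI : IsDominant V.ι := ⟨by
    rw [DenseRange, Scheme.Opens.range_ι]
    exact V.2.dense ⟨_, (‹Nonempty V›.some).2⟩⟩
  refine ext_of_isDominant_of_isSeparated X.hom ((Over.w a).trans (Over.w b).symm) V.ι ?_
  have key : ∀ c : X' ⟶ X, c ≫ g = g' → ∃ c' : (V : Scheme.{u}) ⟶ (g.left ⁻¹ᵁ U : Scheme.{u}),
      c' ≫ (g.left ⁻¹ᵁ U).ι = V.ι ≫ c.left ∧ c' ≫ (g.left ∣_ U) = g'.left ∣_ U := fun c hc => by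
    have hr : Set.range (V.ι ≫ c.left) ⊆ Set.range (g.left ⁻¹ᵁ U).ι := by
      rintro _ ⟨v, rfl⟩
      rw [Scheme.Opens.range_ι]
      show g.left (c.left v.1) ∈ U
      rw [← Scheme.Hom.comp_apply, ← Over.comp_left, hc]
      exact v.2
    refine ⟨IsOpenImmersion.lift (g.left ⁻¹ᵁ U).ι _ hr, IsOpenImmersion.lift_fac _ _ _, ?_⟩
    rw [← cancel_mono U.ι, Category.assoc, morphismRestrict_ι, IsOpenImmersion.lift_fac_assoc, morphismRestrict_ι,
      Category.assoc, ← Over.comp_left, hc]
  obtain ⟨a', ha', ha''⟩ := key a ha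
  obtain ⟨b', hb', hb''⟩ := key b hb
  rw [← ha', ← hb', (cancel_mono (g.left ∣_ U)).1 (ha''.trans hb''.symm)]

/-- A minimal desingularization is dominated by every one with which it shares a dominating surface. -/
theorem factor_of_dominating {X X' Y W : Over (Spec (CommRingCat.of R))} (hX : ArSurf.IsArithSurface R X)
    (hX' : ArSurf.IsArithSurface R X') [IsIntegral Y.left] [IsProper Y.hom]
    (hnor : ∀ y : Y.left, IsIntegrallyClosed (Y.left.presheaf.stalk y))
    (g : X ⟶ Y) (U : Y.left.Opens) (hU : (U : Set Y.left).Nonempty) [IsIso (g.left ∣_ U)]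
    (hexc : ∀ D : ArSurf.VertComp R X, Models.IsExcCurve D.ι →
      ¬ ∃ y : Y.left, Set.range ((D.ι ≫ g.left).base : D.curve.left → Y.left) = {y})
    (g' : X' ⟶ Y) (hW : ArSurf.IsArithSurface R W) (f₁ : W ⟶ X) (f₂ : W ⟶ X')
    [IsIso ((Neron.genericFibre R).map f₁)] [IsIso ((Neron.genericFibre R).map f₂)] (hc : f₁ ≫ g = f₂ ≫ g') :
    ∃ k : X' ⟶ X, k ≫ g = g' := by
  obtain ⟨hXi, hXp, hXn⟩ := surf_instances hX
  obtain ⟨hX'i, hX'p, hX'n⟩ := surf_instances hX'
  haveI := hXi; haveI := hXp; haveI := hX'i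
  obtain ⟨ω, hω⟩ := RegConLib.exists_isCanonical hX
  obtain ⟨k, hk⟩ := dominate hX hX' (fun x => g.left x) (fun x => g'.left x) ω hω
    (canonical_nonneg_of_no_exc hX hnor g U hU hexc ω hω) _ hW f₁ f₂ (fun x => by
      rw [← Scheme.Hom.comp_apply, ← Over.comp_left, hc, Over.comp_left, Scheme.Hom.comp_apply]) le_rfl
  haveI : IsDominant f₂.left := ⟨denseRange_left hW hX' f₂⟩
  refine ⟨k, Over.OverMorphism.ext (ext_of_isDominant_of_isSeparated Y.hom
    ((Over.w (k ≫ g)).trans (Over.w g').symm) f₂.left ?_)⟩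
  rw [← Over.comp_left, ← Over.comp_left, ← Category.assoc, hk, hc]

end MinModLib
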