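import Groth.Agent.VertIntLib.PicApps
import Groth.Agent.VertIntLib.Kernel
import Groth.Agent.VertChiLib.CompExists
import Groth.Agent.DvrProperLib.Closure
import Groth.Agent.RelMinSmLib.Main
import Groth.Agent.PtBlowFactLib.Surf
import Groth.Agent.S7640
import Groth.Agent.S8728

/-!
# Images of vertical curves and degrees of pullbacks
-/

set_option autoImplicit false
set_option linter.style.haveILetI false
set_option linter.unusedSectionVars false
set_option maxHeartbeats 1000000
set_option backward.isDefEq.respectTransparency false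
set_option backward.isDefEq.respectTransparency.types false
universe u

open CategoryTheory CategoryTheory.Limits AlgebraicGeometry TopologicalSpace Topology IsLocalRing

noncomputable section

namespace MinModLib

variable {R : Type u} [CommRing R] [IsDomain R] [IsDiscreteValuationRing R]

theorem genericPoint_not_closed {X₀ : Over (Spec (CommRingCat.of R))} (Γ₀ : ArSurf.VertComp R X₀) :
    ¬ IsClosed ({genericPoint Γ₀.curve.left} : Set Γ₀.curve.left) := fun hc => by
  haveI : Subsingleton ↥Γ₀.curve.left := by
    have hu : ({genericPoint Γ₀.curve.left} : Set Γ₀.curve.left) = Set.univ :=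
      hc.closure_eq.symm.trans (genericPoint_spec Γ₀.curve.left).def
    exact ⟨fun a b => ((hu.symm ▸ Set.mem_univ a : a ∈ ({_} : Set Γ₀.curve.left))).trans
      ((hu.symm ▸ Set.mem_univ b : b ∈ ({_} : Set Γ₀.curve.left))).symm⟩
  have h := topologicalKrullDim_zero_of_discreteTopology (X := ↥Γ₀.curve.left)
  rw [Γ₀.dim_eq] at h
  exact absurd h (by decide)

theorem range_image {X Y : Over (Spec (CommRingCat.of R))} (f : X ⟶ Y) [IsProper f.left] (C : ArSurf.VertComp R X) :
    f.left '' Set.range (C.ι.base : C.curve.left → X.left) = closure {f.left (Models.genPtOf R X C)} := by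
  refine Set.Subset.antisymm ?_ (closure_minimal ?_ ?_)
  · rw [VertIntLib.range_eq_closure]
    exact (image_closure_subset_closure_image f.left.continuous).trans (by rw [Set.image_singleton])
  · exact Set.singleton_subset_iff.2 ⟨_, ⟨_, rfl⟩, rfl⟩
  · exact f.left.isClosedMap _ C.ι.isClosedEmbedding.isClosed_range

/-- The image of a vertical curve which is not contracted is a vertical curve. -/
theorem exists_image {X Y : Over (Spec (CommRingCat.of R))} (hY : ArSurf.IsArithSurface R Y) (f : X ⟶ Y)
    [IsProper f.left] (C : ArSurf.VertComp R X)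
    (hC : ¬ (f.left '' Set.range (C.ι.base : C.curve.left → X.left)).Subsingleton) :
    ∃ D : ArSurf.VertComp R Y, Set.range (D.ι.base : D.curve.left → Y.left) =
      f.left '' Set.range (C.ι.base : C.curve.left → X.left) ∧
      Models.genPtOf R Y D = f.left (Models.genPtOf R X C) := by
  obtain ⟨hYi, hYp, hYn⟩ := PtBlowFactLib.surf_instances hY
  haveI := hYi; haveI := hYp; haveI := hYn
  haveI := hY.2.2.2.1
  set e := f.left (Models.genPtOf R X C) with he
  have heo : Y.hom e = closedPoint R := by
    rw [he, ← Scheme.Hom.comp_apply, Over.w f]; exact VertIntLib.genPt_over C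
  obtain ⟨v, hv, hve⟩ : ∃ v, e ⤳ v ∧ v ≠ e := by
    by_contra! h
    refine hC ?_
    rw [range_image]
    exact Set.Subsingleton.anti (Set.subsingleton_singleton (a := e))
      fun x hx => h x (specializes_iff_mem_closure.2 hx)
  have hg : VertIntLib.IsFibGen e := fun z hz hze => by
    by_contra hne
    refine RelMinSmLib.not_four hY.2.2.1.le ((genericPoint_spec Y.left).specializes trivial) hze hv (fun h => ?_) hne
      hve.symm
    rw [← h, VertIntLib.genericPoint_over] at hz
    exact VertIntLib.eta_ne_closedPoint hz
  obtain ⟨n, Δ, hΔ⟩ := VertChiLib.exists_list_of_dim_two (X := Y) hY.2.2.1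
  obtain ⟨i, hi⟩ := VertIntLib.eq_genPt_of_isFibGen hΔ heo hg
  exact ⟨Δ i, by rw [VertIntLib.range_eq_closure, hi, range_image], hi⟩

/-- The degree of a pullback on a curve is a non-negative multiple of the degree on the image. -/
theorem inter_pullback {X Y : Over (Spec (CommRingCat.of R))} [IsProper X.hom] [IsProper Y.hom] (f : X ⟶ Y)
    (C : ArSurf.VertComp R X) (D : ArSurf.VertComp R Y)
    (hr : f.left '' Set.range (C.ι.base : C.curve.left → X.left) ⊆ Set.range (D.ι.base : D.curve.left → Y.left))
    (hg : Models.genPtOf R Y D = f.left (Models.genPtOf R X C)) {M : Y.left.Modules} (hM : PicF.IsInvertible M) :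
    ∃ d : ℕ, ArSurf.inter R X ((Scheme.Modules.pullback f.left).obj M) C = (d : ℤ) * ArSurf.inter R Y M D := by
  haveI := VertIntLib.isProper_curve C
  haveI := VertIntLib.isProper_curve D
  have hrange : Set.range (C.ι ≫ f.left) ⊆ Set.range (D.ι.base : D.curve.left → Y.left) := by
    rw [Scheme.Hom.comp_base, TopCat.coe_comp, Set.range_comp]
    exact hr
  let φ : C.curve.left ⟶ D.curve.left :=
    IsClosedImmersion.lift D.ι (C.ι ≫ f.left) (DvrProperLib.ker_le_ker_of_range_subset D.ι _ hrange)
  have hφ : φ ≫ D.ι = C.ι ≫ f.left := IsClosedImmersion.lift_fac _ _ _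
  haveI : IsClosedImmersion (Spec.map (CommRingCat.ofHom (residue R))) :=
    IsClosedImmersion.spec_of_surjective _ residue_surjective
  have hover : φ ≫ (D.curve.left ↘ Spec (CommRingCat.of (ResidueField R))) =
      C.curve.left ↘ Spec (CommRingCat.of (ResidueField R)) := by
    rw [← cancel_mono (Spec.map (CommRingCat.ofHom (residue R))), Category.assoc, VertIntLib.over_hom,
      ← Category.assoc, hφ, Category.assoc, Over.w f, VertIntLib.over_hom]
  have hξ : φ.base (genericPoint C.curve.left) = genericPoint D.curve.left := D.ι.isEmbedding.injective (by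
    rw [← Scheme.Hom.comp_apply, hφ]
    exact hg.symm)
  refine ⟨φ.residueDegree (genericPoint C.curve.left), ?_⟩
  rw [VertIntLib.inter_eq_deg, VertIntLib.inter_eq_deg,
    ← Groth.Agent.S7640.result (ResidueField R) C.curve.left D.curve.left C.dim_eq D.dim_eq φ hover hξ 1
      ((Scheme.Modules.pullback D.ι).obj M) (CurvLib.locFree_of_isInvertible (AmpleDevLib.isInvertible_pb D.ι hM))]
  refine CurvLib.deg_congr ?_ 1
  exact (Scheme.Modules.pullbackComp C.ι f.left).app M ≪≫ (Scheme.Modules.pullbackCongr hφ.symm).app M ≪≫
    ((Scheme.Modules.pullbackComp φ D.ι).app M).symm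

/-- Distinct vertical curves meet non-negatively. -/
theorem inter_nonneg_of_ne {X : Over (Spec (CommRingCat.of R))} (hX : ArSurf.IsArithSurface R X)
    (E C : ArSurf.VertComp R X) (hne : Set.range (C.ι.base : C.curve.left → X.left) ≠ Set.range E.ι.base)
    (L : X.left.Modules) (hL : ClSub.IsInverseOf L (ClSub.idealMod E.ι.ker)) : 0 ≤ ArSurf.inter R X L C := by
  obtain ⟨hXi, hXp, hXn⟩ := PtBlowFactLib.surf_instances hX
  haveI := hXi; haveI := hXp
  haveI := hX.2.2.2.1
  exact (Groth.Agent.S8728.result R X hX C E.ι.ker
    (VertIntLib.isEffCartier_ker hX.1 E (VertIntLib.isFibGen_of_dim hX.2.2.1.le E))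
    (VertIntLib.genPt_not_mem C hX.2.2.1.le E hne) L hL).1

end MinModLib
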