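import Groth.Agent.PtBlowFactLib.Induct
import Groth.Agent.MinModLib.Push

/-!
# Peeling off a point blow-up from a birational morphism of arithmetic surfaces
-/

set_option autoImplicit false
set_option linter.style.haveILetI false
set_option linter.unusedSectionVars false
set_option maxHeartbeats 2000000
set_option backward.isDefEq.respectTransparency false
set_option backward.isDefEq.respectTransparency.types false
universe u

open CategoryTheory CategoryTheory.Limits AlgebraicGeometry TopologicalSpace Topology IsLocalRing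

noncomputable section

namespace MinModLib

open PtBlowFactLib

variable {R : Type u} [CommRing R] [IsDomain R] [IsDiscreteValuationRing R]

/-- A point of a surface with a big fibre under a birational morphism has dimension two. -/
theorem stalk_dim_of_big {X Y : Over (Spec (CommRingCat.of R))} (hX : ArSurf.IsArithSurface R X)
    (hY : ArSurf.IsArithSurface R Y) (f : X ⟶ Y) (W : Y.left.Opens) (hW : (W : Set Y.left).Nonempty)
    [IsIso (f.left ∣_ W)] (y : Y.left) (hbig : ¬ (f.left ⁻¹' {y}).Subsingleton) :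
    ringKrullDim (Y.left.presheaf.stalk y) = ((1 + 1 : ℕ) : WithBot ℕ∞) := by
  obtain ⟨hXi, hXp, hXn⟩ := surf_instances hX
  obtain ⟨hYi, hYp, hYn⟩ := surf_instances hY
  haveI := hXi; haveI := hXp; haveI := hXn; haveI := hYi; haveI := hYp; haveI := hYn
  haveI := isProper_hom f
  haveI := hY.1 y
  obtain ⟨d, hd⟩ : ∃ d : ℕ, ringKrullDim (Y.left.presheaf.stalk y) = (d : ℕ) :=
    ⟨_, IsRegularLocalRing.spanFinrank_maximalIdeal.symm⟩
  have h2 : ringKrullDim (Y.left.presheaf.stalk y) ≤ 2 := (DimIneqLib.stalk_dim_le_dim y).trans hY.2.2.1.le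
  have h1 : ¬ ringKrullDim (Y.left.presheaf.stalk y) ≤ 1 := fun h => by
    haveI := CommAlgDim.isDomain_of_isRegularLocalRing (Y.left.presheaf.stalk y)
    have hn : IsIntegrallyClosed (Y.left.presheaf.stalk y) := Groth.Agent.S9829.result _
    haveI := hn
    exact hbig (fibre_subsingleton_of_principal f.left W hW y hn (principal_of_dim_le_one _ h))
  rw [hd] at h1 h2 ⊢
  norm_cast at h1 h2 ⊢
  omega

/-- The exceptional curve of the blow-up of a point. -/
theorem exists_excComp {Y : Over (Spec (CommRingCat.of R))} (hY : ArSurf.IsArithSurface R Y) (y : Y.left)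
    (hy : IsClosed ({y} : Set Y.left)) (hys : Y.hom y = closedPoint R)
    (hd2 : ringKrullDim (Y.left.presheaf.stalk y) = ((1 + 1 : ℕ) : WithBot ℕ∞))
    {Y' : Scheme.{u}} (π : Y' ⟶ Y.left)
    (hπ : BlowUp.IsBlowUp π (Scheme.IdealSheafData.vanishingIdeal ⟨{y}, hy⟩))
    (hY' : ArSurf.IsArithSurface R (Over.mk (π ≫ Y.hom))) :
    ∃ F : ArSurf.VertComp R (Over.mk (π ≫ Y.hom)),
      Set.range (F.ι.base : F.curve.left → Y') = π ⁻¹' {y} ∧ ¬ (π ⁻¹' {y}).Subsingleton := by
  obtain ⟨hYi, hYp, hYn⟩ := surf_instances hY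
  haveI := hYi; haveI := hYp; haveI := hYn
  obtain ⟨hY'i, hY'p, hY'n⟩ := surf_instances hY'
  haveI : IsIntegral Y' := hY'i
  haveI := hY'p
  haveI := hY'.2.2.2.1
  haveI := hY.1 y
  have hsupp : ((Scheme.IdealSheafData.vanishingIdeal ⟨{y}, hy⟩).support : Set Y.left) = {y} :=
    Scheme.IdealSheafData.coe_support_vanishingIdeal _
  obtain ⟨φ, hφ, -, -⟩ := BlowRegLib.exc_point y hy 1 hd2 hπ
  haveI := hφ
  have hJ : Set.range ((Scheme.IdealSheafData.vanishingIdeal ⟨{y}, hy⟩).comap π).subschemeι = π ⁻¹' {y} := by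
    rw [Scheme.IdealSheafData.range_subschemeι, Scheme.IdealSheafData.support_comap, Closeds.coe_preimage, hsupp]
  have hirrπ : IsIrreducible (π ⁻¹' {y}) := by
    haveI : IrreducibleSpace ((Scheme.IdealSheafData.vanishingIdeal ⟨{y}, hy⟩).comap π).subscheme := by
      haveI : IsIntegral (CohB1.ProjSpace 1 (Y.left.residueField y)) := inferInstance
      exact (asIso φ).inv.homeomorph.irreducibleSpace_iff.1 inferInstance
    have h := (IrreducibleSpace.isIrreducible_univ _).image (((Scheme.IdealSheafData.vanishingIdeal ⟨{y}, hy⟩).comap π).subschemeι : _ → Y')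
      (((Scheme.IdealSheafData.vanishingIdeal ⟨{y}, hy⟩).comap π).subschemeι.continuous.continuousOn)
    rwa [Set.image_univ, hJ] at h
  have hπbig : ¬ (π ⁻¹' {y}).Subsingleton := by
    intro hs
    haveI : Subsingleton ↥(CohB1.ProjSpace 1 (Y.left.residueField y)) := by
      haveI : Subsingleton ↥((Scheme.IdealSheafData.vanishingIdeal ⟨{y}, hy⟩).comap π).subscheme := ⟨fun a b => ((Scheme.IdealSheafData.vanishingIdeal ⟨{y}, hy⟩).comap π).subschemeι.isEmbedding.injective
        (hs (hJ.le ⟨a, rfl⟩) (hJ.le ⟨b, rfl⟩))⟩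
      exact (asIso φ).inv.homeomorph.injective.subsingleton
    have h := topologicalKrullDim_zero_of_discreteTopology (X := ↥(CohB1.ProjSpace 1 (Y.left.residueField y)))
    rw [GenusZeroLib.dim_projSpace] at h
    exact absurd h (by norm_num)
  obtain ⟨e, he⟩ := QuasiSober.sober hirrπ (hy.preimage π.continuous)
  obtain ⟨c, hc, hce⟩ : ∃ c ∈ π ⁻¹' {y}, c ≠ e := by
    by_contra! hall
    exact hπbig fun a ha b hb => (hall a ha).trans (hall b hb).symm
  have heo : (Over.mk (π ≫ Y.hom)).hom e = closedPoint R := by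
    show (π ≫ Y.hom) e = _
    rw [Scheme.Hom.comp_apply, show π e = y from he.mem, hys]
  have hg : VertIntLib.IsFibGen (X := Over.mk (π ≫ Y.hom)) e := fun z hz hze => by
    by_contra hne
    refine RelMinSmLib.not_four hY'.2.2.1.le ((genericPoint_spec Y').specializes trivial) hze
      (he.specializes hc) (fun h => ?_) hne hce.symm
    have hz' : (Over.mk (π ≫ Y.hom)).hom z = closedPoint R := hz
    rw [← h] at hz'
    exact VertIntLib.eta_ne_closedPoint ((VertIntLib.genericPoint_over (X := Over.mk (π ≫ Y.hom))).symm.trans hz')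
  obtain ⟨n, Δ, hΔ⟩ := VertChiLib.exists_list_of_dim_two (X := Over.mk (π ≫ Y.hom)) hY'.2.2.1
  obtain ⟨i, hi⟩ := VertIntLib.eq_genPt_of_isFibGen hΔ heo hg
  exact ⟨Δ i, by rw [VertIntLib.range_eq_closure, hi]; exact he.def, hπbig⟩

/-- Peel off a point blow-up. -/
theorem step {X Y : Over (Spec (CommRingCat.of R))} (hX : ArSurf.IsArithSurface R X)
    (hY : ArSurf.IsArithSurface R Y) (f : X ⟶ Y) [IsIso ((Neron.genericFibre R).map f)] (hf : ¬ IsIso f.left) :
    ∃ (y : Y.left) (hy : IsClosed ({y} : Set Y.left)), Y.hom y = closedPoint R ∧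
      ∃ (Y' : Scheme.{u}) (π : Y' ⟶ Y.left) (g : X ⟶ Over.mk (π ≫ Y.hom)) (p : Over.mk (π ≫ Y.hom) ⟶ Y),
        BlowUp.IsBlowUp π (Scheme.IdealSheafData.vanishingIdeal ⟨{y}, hy⟩) ∧ p.left = π ∧ g ≫ p = f ∧
        ArSurf.IsArithSurface R (Over.mk (π ≫ Y.hom)) ∧ IsIso ((Neron.genericFibre R).map g) ∧
        ∃ (F : ArSurf.VertComp R (Over.mk (π ≫ Y.hom))) (Γ₀ : ArSurf.VertComp R X),
          Set.range (F.ι.base : F.curve.left → Y') = π ⁻¹' {y} ∧
          g.left '' Set.range (Γ₀.ι.base : Γ₀.curve.left → X.left) = Set.range (F.ι.base : F.curve.left → Y') ∧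
          {Z ∈ Models.fibreComponents R X | (g.left '' Z).Subsingleton}.ncard <
            {Z ∈ Models.fibreComponents R X | (f.left '' Z).Subsingleton}.ncard := by
  obtain ⟨hXi, hXp, hXn⟩ := surf_instances hX
  obtain ⟨hYi, hYp, hYn⟩ := surf_instances hY
  haveI := hXi; haveI := hXp; haveI := hXn; haveI := hYi; haveI := hYp; haveI := hYn
  haveI := hX.2.2.2.1
  haveI := hY.2.2.2.1
  haveI := isProper_hom f
  have hnor : ∀ q : Y.left, IsIntegrallyClosed (Y.left.presheaf.stalk q) := fun q =>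
    haveI := hY.1 q; Groth.Agent.S9829.result _
  obtain ⟨W, hW, hWi, hdom⟩ := exists_birational_open f hnor
  haveI := hWi
  obtain ⟨y, hy, hys, hbig⟩ := exists_big_fibre hX hnor f hf
  obtain ⟨Y', π, hπ⟩ := BlowUpLib.exists_isBlowUp Y.left (Scheme.IdealSheafData.vanishingIdeal ⟨{y}, hy⟩)
  obtain ⟨g₀, hg₀⟩ := surf_factor hX hY f W hW y hy hbig π hπ
  let g : X ⟶ Over.mk (π ≫ Y.hom) := Over.homMk g₀ (by
    show g₀ ≫ π ≫ Y.hom = X.hom
    rw [← Category.assoc, hg₀, Over.w f])
  have hY' := isArithSurface_blowUp hX hY y hy hys π hπ g (by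
    show π (g₀ (genericPoint X.left)) = _
    rw [← Scheme.Hom.comp_apply, hg₀, hdom])
  let p : Over.mk (π ≫ Y.hom) ⟶ Y := Over.homMk π rfl
  have hgp : g ≫ p = f := Over.OverMorphism.ext hg₀
  haveI hpW : IsIso (p.left ∣_ (⟨{y}ᶜ, hy.isOpen_compl⟩ : Y.left.Opens)) :=
    BlowRegLib.isIso_off_centre hπ _ (comap_eq_bot_off hy)
  haveI : IsIso ((Neron.genericFibre R).map p) :=
    isIso_genericFibre_map p ⟨{y}ᶜ, hy.isOpen_compl⟩ fun q hq h =>
      VertIntLib.eta_ne_closedPoint (hq.symm.trans ((congrArg Y.hom (Set.mem_singleton_iff.1 h)).trans hys))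
  haveI hgi : IsIso ((Neron.genericFibre R).map g) := by
    haveI : IsIso ((Neron.genericFibre R).map g ≫ (Neron.genericFibre R).map p) := by
      rw [← Functor.map_comp, hgp]; infer_instance
    exact IsIso.of_isIso_comp_right _ ((Neron.genericFibre R).map p)
  obtain ⟨F, hF, hπbig⟩ := exists_excComp hY y hy hys (stalk_dim_of_big hX hY f W hW y hbig) π hπ hY'
  obtain ⟨hY'i, hY'p, hY'n⟩ := surf_instances hY'
  haveI := hY'i; haveI := hY'p; haveI := hY'n
  haveI := hY'.2.2.2.1
  haveI := isProper_hom g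
  obtain ⟨W', hW', hW'i, hdom'⟩ := exists_birational_open g fun q => haveI := hY'.1 q; Groth.Agent.S9829.result _
  let e := Models.genPtOf R (Over.mk (π ≫ Y.hom)) F
  obtain ⟨x, hx⟩ : e ∈ Set.range g.left :=
    ((genericPoint_spec _).specializes (Set.mem_univ e)).mem_closed g.left.isClosedMap.isClosed_range ⟨_, hdom'⟩
  have hxo : X.hom x = closedPoint R := by
    rw [← Over.w g, Scheme.Hom.comp_apply, hx]; exact VertIntLib.genPt_over F
  obtain ⟨n, Γ, hΓ⟩ := VertChiLib.exists_list_of_dim_two (X := X) hX.2.2.1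
  have hfin : (Models.fibreComponents R X).Finite := hΓ.2 ▸ Set.finite_range _
  obtain ⟨i, hxi⟩ := VertIntLib.cover_of_list hΓ x hxo
  -- the component through `x` maps onto the exceptional curve
  have hγ : g.left (Models.genPtOf R X (Γ i)) = e := by
    rw [VertIntLib.range_eq_closure] at hxi
    have hsp : g.left (Models.genPtOf R X (Γ i)) ⤳ e :=
      hx ▸ ((specializes_iff_mem_closure.2 hxi).map g.left.continuous)
    exact VertIntLib.isFibGen_of_dim hY'.2.2.1.le F _ (by
      rw [← Scheme.Hom.comp_apply, Over.w g]; exact VertIntLib.genPt_over (Γ i)) hsp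
  have himg : g.left '' Set.range ((Γ i).ι.base : (Γ i).curve.left → X.left) = Set.range (F.ι.base : F.curve.left → Y') := by
    rw [range_image, hγ]; exact (VertIntLib.range_eq_closure F).symm
  refine ⟨y, hy, hys, Y', π, g, p, hπ, rfl, hgp, hY', hgi, F, Γ i, hF, himg,
    Set.ncard_lt_ncard ?_ (hfin.subset fun Z h => h.1)⟩
  rw [Set.ssubset_iff_of_subset]
  · refine ⟨Set.range (Γ i).ι.base, ⟨hΓ.2 ▸ ⟨i, rfl⟩, ?_⟩, fun h => hπbig (hF ▸ himg ▸ h.2)⟩
    refine Set.Subsingleton.anti (Set.subsingleton_singleton (a := y)) ?_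
    rintro _ ⟨z, hz, rfl⟩
    have h1 : g.left z ∈ π ⁻¹' {y} := hF.le (himg.le ⟨z, hz, rfl⟩)
    rw [← hgp]; exact h1
  · rintro Z ⟨hZ, hs⟩
    refine ⟨hZ, ?_⟩
    have h : f.left '' Z = π '' (g.left '' Z) := by
      rw [← Set.image_comp, ← hgp]; rfl
    rw [h]
    exact hs.image _

/-- A non-trivial birational morphism of arithmetic surfaces contracts an exceptional curve. -/
theorem exists_contracted_exc : ∀ (m : ℕ) {X Y : Over (Spec (CommRingCat.of R))}
    (_hX : ArSurf.IsArithSurface R X) (_hY : ArSurf.IsArithSurface R Y) (f : X ⟶ Y)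
    [IsIso ((Neron.genericFibre R).map f)],
    {Z ∈ Models.fibreComponents R X | (f.left '' Z).Subsingleton}.ncard ≤ m → ¬ IsIso f.left →
    ∃ E : ArSurf.VertComp R X, Models.IsExcCurve E.ι ∧
      ∃ y : Y.left, f.left '' Set.range (E.ι.base : E.curve.left → X.left) = {y} := by
  intro m
  induction m using Nat.strong_induction_on with
  | _ m ih =>
  intro X Y hX hY f _ hm hf
  obtain ⟨y, hy, hys, Y', π, g, p, hπ, hp, hgp, hY', hgi, F, Γ₀, hF, himg, hlt⟩ := step hX hY f hf
  haveI := hgi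
  have key : ∀ E : ArSurf.VertComp R X, g.left '' Set.range (E.ι.base : E.curve.left → X.left) ⊆ π ⁻¹' {y} →
      f.left '' Set.range (E.ι.base : E.curve.left → X.left) = {y} := fun E hE => by
    have hne : Nonempty E.curve.left := inferInstance
    refine ((Set.range_nonempty E.ι.base).image _).subset_singleton_iff.1 ?_
    rintro _ ⟨z, hz, rfl⟩
    have h1 : g.left z ∈ π ⁻¹' {y} := hE ⟨z, hz, rfl⟩
    rw [← hgp, Over.comp_left, Scheme.Hom.comp_apply, hp]; exact h1
  by_cases hg : IsIso g.left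
  · haveI := hg
    refine ⟨Γ₀, isExcCurve_of_contracted hX hY Γ₀ f y hy ?_ ?_, y, key Γ₀ (himg.trans hF).le⟩
    · have hinj : Function.Injective g.left := g.left.homeomorph.injective
      have h1 : f.left ⁻¹' {y} = g.left ⁻¹' (Set.range (F.ι.base : F.curve.left → Y')) := by
        rw [← hgp, Over.comp_left, hp, hF]; rfl
      rw [h1, ← himg]
      exact hinj.preimage_image _
    · haveI := BlowRegLib.isIso_off_centre hπ _ (comap_eq_bot_off hy)
      have h : IsIso ((g.left ≫ π) ∣_ (⟨{y}ᶜ, hy.isOpen_compl⟩ : Y.left.Opens)) := by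
        rw [morphismRestrict_comp]; infer_instance
      rwa [show g.left ≫ π = f.left by rw [← hgp, Over.comp_left, hp]] at h
  · obtain ⟨E, hE, w, hw⟩ := ih _ (lt_of_lt_of_le hlt hm) hX hY' g le_rfl hg
    refine ⟨E, hE, p.left w, ?_⟩
    rw [← hgp, Over.comp_left, Scheme.Hom.comp_base, TopCat.coe_comp, Set.image_comp, hw, Set.image_singleton]

end MinModLib
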